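import Groth.Agent.Lib.DBC9.Algebra
import Groth.Agent.Lib.TorBal27.BaseChange
import Groth.Agent.Lib.RFPlus.MapExtend
import Groth.Agent.Lib.TorBal.Dim
import Mathlib.CategoryTheory.Abelian.Projective.Extend

/-! Derived base change of a Tor-independent module. -/

set_option autoImplicit false
set_option linter.unusedSectionVars false
set_option linter.style.haveILetI false
set_option backward.isDefEq.respectTransparency false
set_option backward.isDefEq.respectTransparency.types false
set_option maxHeartbeats 800000

universe u

open CategoryTheory CategoryTheory.Limits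
open scoped TensorProduct ChangeOfRings

attribute [local instance] HasDerivedCategory.standard

namespace Groth.Agent.DBC9

section Extend

universe v v' u'

variable {C : Type u} [Category.{v} C] [Abelian C] {D : Type u'} [Category.{v'} D] [Abelian D] (F : C ⥤ D) [F.Additive]
  {ι ι' : Type*} {c : ComplexShape ι} {c' : ComplexShape ι'} (e : c.Embedding c')

theorem mapExtendX_naturality {K L : HomologicalComplex C c} (f : K ⟶ L) (o : Option ι) :
    F.map (HomologicalComplex.extend.mapX f o) ≫ (RFPlus.mapExtendX F L o).hom =
      (RFPlus.mapExtendX F K o).hom ≫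
        HomologicalComplex.extend.mapX ((F.mapHomologicalComplex c).map f) o := by
  cases o with
  | none => exact (HomologicalComplex.extend.isZero_X _ rfl).eq_of_tgt _ _
  | some i => exact (Category.comp_id _).trans (Category.id_comp _).symm

theorem quasiIso_map_extendMap {K L : HomologicalComplex C c} (f : K ⟶ L) [e.IsRelIff]
    [QuasiIso ((F.mapHomologicalComplex c).map f)] :
    QuasiIso ((F.mapHomologicalComplex c').map (HomologicalComplex.extendMap f e)) := by
  haveI : QuasiIso (HomologicalComplex.extendMap ((F.mapHomologicalComplex c).map f) e) := inferInstance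
  refine (quasiIso_iff_of_arrow_mk_iso _ _
    (Arrow.isoMk (RFPlus.mapExtendIso F e K) (RFPlus.mapExtendIso F e L) ?_)).2 this
  ext i
  exact (mapExtendX_naturality F f (e.r i)).symm

end Extend

variable {A A' : Type u} [CommRing A] [CommRing A'] (γ : A →+* A') [DRing.HasLBaseChange γ]

/-- Derived base change of a module with vanishing higher Tor is the base change. -/
theorem isIso_νT_of_tor (M : ModuleCat.{u} A)
    (h : ∀ q : ℕ, 0 < q → Subsingleton (@DRing.Tor A _ q A' M _ γ.toModule _ M.isModule)) (a : ℤ) :
    IsIso ((νT γ a).app M) := by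
  letI := γ.toAlgebra
  let Pr := TorBal27.res M
  let Sing := HomologicalComplex.single (ModuleCat.{u} A) (ComplexShape.up ℤ)
  let ext := ModuleCat.extendScalars.{u, u, u} γ
  haveI : QuasiIso ((ext.mapHomologicalComplex (ComplexShape.down ℕ)).map Pr.π) := by
    have hq := TorBal27.quasiIso_bcAug (A := A) (A' := A') M
      (fun q => (DMod.isZero_iff_subsingleton _).2 (h (q + 1) (Nat.succ_pos q)))
      ((ext.mapHomologicalComplex _).map Pr.π ≫
        ((HomologicalComplex.singleMapHomologicalComplex ext (ComplexShape.down ℕ) 0).hom.app M))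
      (by simp; rfl)
    haveI : QuasiIso ((ext.mapHomologicalComplex _).map Pr.π ≫
        ((HomologicalComplex.singleMapHomologicalComplex ext (ComplexShape.down ℕ) 0).hom.app M)) := hq
    exact quasiIso_of_comp_right _ ((HomologicalComplex.singleMapHomologicalComplex ext (ComplexShape.down ℕ) 0).hom.app M)
  haveI : QuasiIso ((DTen.extCx γ).map Pr.π') := by
    haveI : QuasiIso ((ext.mapHomologicalComplex (ComplexShape.up ℤ)).map
        ((ComplexShape.embeddingDownNat.extendFunctor (ModuleCat.{u} A)).map Pr.π)) :=
      quasiIso_map_extendMap ext ComplexShape.embeddingDownNat Pr.π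
    change QuasiIso ((ext.mapHomologicalComplex _).map (_ ≫ _))
    rw [Functor.map_comp]
    infer_instance
  let sh := (shiftFunctor (CochainComplex (ModuleCat.{u} A) ℤ) (-a))
  let q : sh.obj Pr.cochainComplex ⟶ (Sing a).obj M :=
    sh.map Pr.π' ≫ ((CochainComplex.singleFunctors (ModuleCat.{u} A)).shiftIso (-a) a 0 (by omega)).hom.app M
  haveI : QuasiIso q := by dsimp [q, sh]; infer_instance
  haveI : QuasiIso ((DTen.extCx γ).map q) := by
    rw [Functor.map_comp]
    haveI : QuasiIso ((sh ⋙ DTen.extCx γ).map Pr.π') :=
      (quasiIso_iff_of_arrow_mk_iso _ _ (Arrow.isoMk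
        (((DTen.extCx γ).commShiftIso (-a)).app _) (((DTen.extCx γ).commShiftIso (-a)).app _)
        (((DTen.extCx γ).commShiftIso (-a)).hom.naturality Pr.π').symm)).2
        (inferInstanceAs (QuasiIso (((DTen.extCx γ).map Pr.π')⟦-a⟧')))
    haveI : QuasiIso ((DTen.extCx γ).map (sh.map Pr.π')) := this
    infer_instance
  haveI : (sh.obj Pr.cochainComplex).IsStrictlyLE a := Pr.cochainComplex.isStrictlyLE_shift 0 (-a) a (by omega)
  have hf : ∀ i, Module.Flat A ((sh.obj Pr.cochainComplex).X i) := fun i => by
    haveI : Projective ((sh.obj Pr.cochainComplex).X i) := inferInstanceAs (Projective (Pr.cochainComplex.X (i + -a)))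
    haveI := (IsProjective.iff_projective ((sh.obj Pr.cochainComplex).X i : Type u)).2 this
    infer_instance
  haveI := DBaseChange.isIso_valueMap γ _ (DBaseChange.adapted_of_flat _ a hf)
  have hn := (DBaseChange.valueMap γ).naturality q
  haveI : IsIso ((DBaseChange.valueMap γ).app ((Sing a).obj M)) := by
    haveI : IsIso ((DerivedCategory.Q ⋙ DRing.LBaseChange γ).map q) :=
      inferInstanceAs (IsIso ((DRing.LBaseChange γ).map (DerivedCategory.Q.map q)))
    haveI : IsIso ((DTen.extCx γ ⋙ DerivedCategory.Q).map q) :=
      inferInstanceAs (IsIso (DerivedCategory.Q.map ((DTen.extCx γ).map q)))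
    haveI : IsIso ((DerivedCategory.Q ⋙ DRing.LBaseChange γ).map q ≫
        (DBaseChange.valueMap γ).app ((Sing a).obj M)) := hn ▸ inferInstance
    exact IsIso.of_isIso_comp_left ((DerivedCategory.Q ⋙ DRing.LBaseChange γ).map q) _
  simp only [νT]
  infer_instance

end Groth.Agent.DBC9
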