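import Groth.Agent.Lib.DBC9.Push
import Groth.Agent.Lib.DBC9.Tor
import Groth.Agent.Lib.DPush9.Tilde
import Groth.Agent.Lib.DMon9.LpullIso
import Groth.Agent.Lib.DMon9.ProjQC

/-! Base change for affine schemes. -/

set_option autoImplicit false
set_option linter.unusedSectionVars false
set_option linter.style.haveILetI false
set_option backward.isDefEq.respectTransparency false
set_option backward.isDefEq.respectTransparency.types false
set_option maxHeartbeats 800000

universe u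

open CategoryTheory CategoryTheory.Limits AlgebraicGeometry

attribute [local instance] HasDerivedCategory.standard

namespace Groth.Agent.DBC9

open DMon9

theorem hasRpush {X Y : Scheme.{u}} (f : X ⟶ Y) : DCoh.HasRpush f :=
  KInjLib.hasRightDerivedFunctor (A := X.Modules) KInjLib.enoughKInj_of_grothendieck _

/-- `tilde` is fully faithful on derived categories. -/
noncomputable def tildeFF (R : CommRingCat.{u}) : (DPerf.tildeDD R).FullyFaithful where
  preimage {M N} f := ((DQC.bijective_map (R := R) M N).2 f).choose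
  map_preimage {M N} f := ((DQC.bijective_map (R := R) M N).2 f).choose_spec
  preimage_map {M N} f :=
    (DQC.bijective_map (R := R) M N).1 ((DQC.bijective_map (R := R) M N).2 ((DPerf.tildeDD R).map f)).choose_spec

/-- Derived pullback of a tilde. -/
noncomputable def lPTildeIso {A B : CommRingCat.{u}} (φ : A ⟶ B) [DRing.HasLBaseChange φ.hom] :
    DPerf.tildeDD A ⋙ lP (Spec.map φ) ≅ DRing.LBaseChange φ.hom ⋙ DPerf.tildeDD B :=
  haveI := KFlat.Sch.hasLpull (Spec.map φ)
  Functor.isoWhiskerLeft _ (nonempty_lpull_natIso_lP (Spec.map φ)).some.symm ≪≫ (KFlat.Sch.lpullTildeIso φ).symm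

/-- Base change for a pushout square of rings. -/
theorem isIso_bc_spec {A B A' B' : CommRingCat.{u}} (φ : A ⟶ B) (γ : A ⟶ A') (φ' : A' ⟶ B') (γ' : B ⟶ B')
    (H : IsPushout γ φ φ' γ') [DCoh.HasRpush (Spec.map φ)] [DCoh.HasRpush (Spec.map φ')]
    [DRing.HasLBaseChange γ.hom]
    (hν : ∀ a, IsIso ((νT γ.hom a).app ((ModuleCat.restrictScalars φ.hom).obj (ModuleCat.of B B))))
    {L : DCoh.D (Spec A) ⥤ DCoh.D (Spec B)} (adj : L ⊣ DCoh.Rpush (Spec.map φ))
    {L' : DCoh.D (Spec A') ⥤ DCoh.D (Spec B')} (adj' : L' ⊣ DCoh.Rpush (Spec.map φ'))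
    (σ : lP (Spec.map γ) ⋙ L' ≅ L ⋙ lP (Spec.map γ')) (E : DCoh.D (Spec B)) (hE : DCoh.IsQCohD E) :
    IsIso ((bc adj adj' σ.hom).app E) := by
  haveI := DQC.hasLBaseChange φ.hom
  haveI := DQC.hasLBaseChange φ'.hom
  haveI := DQC.hasLBaseChange γ'.hom
  obtain ⟨M, ⟨e⟩⟩ := DQC.exists_iso_of_isQCohD E hE
  rw [← NatTrans.isIso_app_iff_of_iso (bc adj adj' σ.hom) e]
  let cl := Functor.isoWhiskerLeft (DPerf.tildeDD A) (adj.leftAdjointUniq (adjLP (Spec.map φ))) ≪≫ lPTildeIso φ
  let cl' := Functor.isoWhiskerLeft (DPerf.tildeDD A') (adj'.leftAdjointUniq (adjLP (Spec.map φ'))) ≪≫ lPTildeIso φ'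
  obtain ⟨cr⟩ := DPush9.nonempty_tildeD_rpush_iso φ
  obtain ⟨cr'⟩ := DPush9.nonempty_tildeD_rpush_iso φ'
  refine isIso_bc_of_restrict adj adj' σ (tildeFF A) (tildeFF A') (tildeFF B) (tildeFF B')
    (lPTildeIso γ) (lPTildeIso γ') cl cl' cr cr' M ?_
  exact isIso_bc_algebra φ.hom γ.hom φ'.hom γ'.hom _ _ _ hν (exists_pushIso φ γ φ' γ' H) M

end Groth.Agent.DBC9
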