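import Groth.Agent.Lib.DBC9.Affine
import Groth.Agent.Lib.DMV.Restrict
import Groth.Agent.Lib.DPush.Comp
import Groth.Agent.Lib.InjMod.QCohInj
import Mathlib.CategoryTheory.Monad.Adjunction

/-! Squares with base change; pastings. -/

set_option autoImplicit false
set_option linter.unusedSectionVars false
set_option linter.style.haveILetI false
set_option backward.isDefEq.respectTransparency false
set_option backward.isDefEq.respectTransparency.types false
set_option maxHeartbeats 800000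

universe u

open CategoryTheory CategoryTheory.Limits AlgebraicGeometry

attribute [local instance] HasDerivedCategory.standard

namespace Groth.Agent.DBC9

open DMon9

attribute [local instance] hasRpush

variable {X Y X' Y' : Scheme.{u}}

/-- A square satisfying base change for quasi-coherent objects. -/
def Good (f : X ⟶ Y) (f' : X' ⟶ Y') (g : Y' ⟶ Y) (g' : X' ⟶ X) : Prop :=
  ∀ ⦃L : DCoh.D Y ⥤ DCoh.D X⦄ ⦃L' : DCoh.D Y' ⥤ DCoh.D X'⦄ (adj : L ⊣ DCoh.Rpush f) (adj' : L' ⊣ DCoh.Rpush f')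
    (σ : lP g ⋙ L' ≅ L ⋙ lP g') (E : DCoh.D X), DCoh.IsQCohD E → IsIso ((bc adj adj' σ.hom).app E)

theorem isIso_hPaste {A A' A'' B B' B'' : Type*} [Category* A] [Category* A'] [Category* A''] [Category* B]
    [Category* B'] [Category* B''] {G : A ⥤ A'} {G' : B ⥤ B'} {L : A ⥤ B} {L' : A' ⥤ B'} {H : A' ⥤ A''}
    {H' : B' ⥤ B''} {L'' : A'' ⥤ B''} (σ : G ⋙ L' ≅ L ⋙ G') (τ : H ⋙ L'' ≅ L' ⋙ H') :
    IsIso (hPaste σ.hom τ.hom) := by
  simp only [hPaste]
  infer_instance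

theorem isIso_vPaste {A A' B B' C C' : Type*} [Category* A] [Category* A'] [Category* B] [Category* B'] [Category* C]
    [Category* C'] {G : A ⥤ A'} {G' : B ⥤ B'} {L : A ⥤ B} {L' : A' ⥤ B'} {G'' : C ⥤ C'} {K : B ⥤ C} {K' : B' ⥤ C'}
    (σ : G ⋙ L' ≅ L ⋙ G') (ρ : G' ⋙ K' ≅ K ⋙ G'') : IsIso (vPaste σ.hom ρ.hom) := by
  simp only [vPaste]
  infer_instance

/-- The square of derived pullbacks. -/
noncomputable def σcan {f : X ⟶ Y} {f' : X' ⟶ Y'} {g : Y' ⟶ Y} {g' : X' ⟶ X} (w : f' ≫ g = g' ≫ f) :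
    lP g ⋙ lP f' ≅ lP f ⋙ lP g' :=
  lPComp f' g w ≪≫ (lPComp g' f rfl).symm

/-- The square of derived pullbacks, for any left adjoints. -/
noncomputable def σOf {f : X ⟶ Y} {f' : X' ⟶ Y'} {g : Y' ⟶ Y} {g' : X' ⟶ X} (w : f' ≫ g = g' ≫ f)
    {L : DCoh.D Y ⥤ DCoh.D X} (adj : L ⊣ DCoh.Rpush f) {L' : DCoh.D Y' ⥤ DCoh.D X'} (adj' : L' ⊣ DCoh.Rpush f') :
    lP g ⋙ L' ≅ L ⋙ lP g' :=
  Functor.isoWhiskerLeft _ (adj'.leftAdjointUniq (adjLP f')) ≪≫ σcan w ≪≫
    Functor.isoWhiskerRight (adj.leftAdjointUniq (adjLP f)).symm _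

/-- Derived pullback along the identity. -/
noncomputable def lPId (X : Scheme.{u}) : lP (𝟙 X) ≅ 𝟭 (DCoh.D X) :=
  Localization.liftNatIso (qK X) (kfW X) (qK X ⋙ lP (𝟙 X)) (qK X ⋙ 𝟭 _) _ _
    (lPFac (𝟙 X) ≪≫ Functor.isoWhiskerLeft (kfP X).ι (Functor.isoWhiskerRight
      (NatIso.mapHomologicalComplex (Scheme.Modules.pullbackId X) (ComplexShape.up ℤ) ≪≫
        Functor.mapHomologicalComplexIdIso X.Modules (ComplexShape.up ℤ)) DerivedCategory.Q))

/-- Derived direct image along the identity. -/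
noncomputable def rpushId (X : Scheme.{u}) : DCoh.Rpush (𝟙 X) ≅ 𝟭 (DCoh.D X) :=
  ((adjLP (𝟙 X)).ofNatIsoLeft (lPId X)).rightAdjointUniq Adjunction.id

/-- Restriction along an open immersion preserves K-injective complexes. -/
theorem isKInjective_res (i : X ⟶ Y) [IsOpenImmersion i] (I : CochainComplex Y.Modules ℤ) [I.IsKInjective] :
    CochainComplex.IsKInjective
      (((Scheme.Modules.restrictFunctor i).mapHomologicalComplex (ComplexShape.up ℤ)).obj I) := by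
  let E := InjMod.restrictEquiv i.isoOpensRange.hom
  haveI := DMV.isKInjective_restrict (U := i.opensRange) I
  let J := ((Scheme.Modules.restrictFunctor i.opensRange.ι).mapHomologicalComplex (ComplexShape.up ℤ)).obj I
  haveI : E.functor.Additive := inferInstanceAs (Scheme.Modules.restrictFunctor i.isoOpensRange.hom).Additive
  haveI : E.inverse.Additive := inferInstanceAs (Scheme.Modules.restrictFunctor (inv i.isoOpensRange.hom)).Additive
  haveI : CochainComplex.IsKInjective ((E.functor.mapHomologicalComplex (ComplexShape.up ℤ)).obj J) :=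
    KInjLib.isKInjective_of_adj E.functor E.inverse E.symm.toAdjunction J
  haveI : CochainComplex.IsKInjective
      (((Scheme.Modules.restrictFunctor i.opensRange.ι).mapHomologicalComplex (ComplexShape.up ℤ) ⋙
        (Scheme.Modules.restrictFunctor i.isoOpensRange.hom).mapHomologicalComplex (ComplexShape.up ℤ)).obj I) :=
    (this : CochainComplex.IsKInjective ((E.functor.mapHomologicalComplex (ComplexShape.up ℤ)).obj J))
  exact CochainComplex.isKInjective_of_iso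
    ((Functor.mapHomologicalComplexCompIso
        ((Scheme.Modules.restrictFunctorComp i.isoOpensRange.hom i.opensRange.ι).symm ≪≫
          Scheme.Modules.restrictFunctorCongr (Scheme.Hom.isoOpensRange_hom_ι i)) (ComplexShape.up ℤ)).app I)

/-- Restriction commutes with derived direct images. -/
theorem nonempty_res_rpush (f : X ⟶ Y) (f' : X' ⟶ Y') (j : Y' ⟶ Y) [IsOpenImmersion j] (i : X' ⟶ X)
    [IsOpenImmersion i] (H : IsPullback f' i j f) :
    Nonempty (DCoh.Rpush f ⋙ DPerf.resD j ≅ DPerf.resD i ⋙ DCoh.Rpush f') := by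
  let P := Scheme.Modules.pushforward f
  let P' := Scheme.Modules.pushforward f'
  let R := Scheme.Modules.restrictFunctor j
  let R' := Scheme.Modules.restrictFunctor i
  let Cx := ComplexShape.up ℤ
  let pr : P ⋙ R ≅ R' ⋙ P' :=
    NatIso.ofComponents (fun M => M1.pushRestrictIso H M) fun φ => CohFound.pushRestrictIso_natural H φ
  let Φ := (P ⋙ R).mapHomotopyCategory Cx ⋙ DerivedCategory.Qh
  let α₁ : Φ ⟶ DerivedCategory.Qh ⋙ DCoh.Rpush f ⋙ DPerf.resD j :=
    Functor.whiskerRight (Functor.mapHomotopyCategoryCompIso (Iso.refl (P ⋙ R)) Cx).inv _ ≫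
      (Functor.associator _ _ _).hom ≫
      Functor.whiskerLeft _ R.mapDerivedCategoryFactorsh.inv ≫ (Functor.associator _ _ _).inv ≫
      Functor.whiskerRight (DPush.unit f) _ ≫ (Functor.associator _ _ _).hom
  let α₂ : Φ ⟶ DerivedCategory.Qh ⋙ DPerf.resD i ⋙ DCoh.Rpush f' :=
    Functor.whiskerRight (Functor.mapHomotopyCategoryCompIso pr.symm Cx).inv _ ≫
      (Functor.associator _ _ _).hom ≫
      Functor.whiskerLeft _ (DPush.unit f') ≫ (Functor.associator _ _ _).inv ≫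
      Functor.whiskerRight R'.mapDerivedCategoryFactorsh.inv _ ≫ (Functor.associator _ _ _).hom
  refine DMV.nonempty_iso_of_units Φ _ _ α₁ α₂ (fun I hI => ?_) fun I hI => ?_
  · haveI : IsIso ((DPush.unit f).app ((HomotopyCategory.quotient X.Modules Cx).obj I)) :=
      KInjLib.isIso_app_of_isKInjective KInjLib.enoughKInj_of_grothendieck (DPush.unit f) I
    simp only [α₁, NatTrans.comp_app, Functor.whiskerLeft_app, Functor.whiskerRight_app,
      Functor.associator_inv_app, Functor.associator_hom_app]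
    infer_instance
  · haveI : CochainComplex.IsKInjective ((R'.mapHomologicalComplex Cx).obj I) :=
      isKInjective_res i I
    haveI : IsIso ((DPush.unit f').app ((R'.mapHomotopyCategory Cx).obj
        ((HomotopyCategory.quotient X.Modules Cx).obj I))) :=
      KInjLib.isIso_app_of_isKInjective KInjLib.enoughKInj_of_grothendieck (DPush.unit f')
        ((R'.mapHomologicalComplex Cx).obj I)
    simp only [α₂, NatTrans.comp_app, Functor.whiskerLeft_app, Functor.whiskerRight_app,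
      Functor.associator_inv_app, Functor.associator_hom_app]
    infer_instance

/-- The counit of an open immersion. -/
theorem isIso_counit_openImmersion (j : X ⟶ Y) [IsOpenImmersion j] : IsIso (adjLP j).counit := by
  obtain ⟨c⟩ := nonempty_res_rpush j (𝟙 X) j (𝟙 X) (IsKernelPair.id_of_mono j)
  exact (adjLP j).isIso_counit_of_iso (Functor.isoWhiskerLeft _ (lPRes j) ≪≫ c ≪≫
    Functor.isoWhiskerRight ((lPRes (𝟙 X)).symm ≪≫ lPId X) _ ≪≫ Functor.leftUnitor _ ≪≫ rpushId X)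

/-- Base change along open immersions. -/
theorem isIso_bc_open (f : X ⟶ Y) (f' : X' ⟶ Y') (g : Y' ⟶ Y) [IsOpenImmersion g] (g' : X' ⟶ X)
    [IsOpenImmersion g'] (H : IsPullback f' g' g f) {L : DCoh.D Y ⥤ DCoh.D X} {L' : DCoh.D Y' ⥤ DCoh.D X'}
    (adj : L ⊣ DCoh.Rpush f) (adj' : L' ⊣ DCoh.Rpush f') (σ : lP g ⋙ L' ≅ L ⋙ lP g') (E : DCoh.D X) :
    IsIso ((bc adj adj' σ.hom).app E) := by
  haveI := isIso_counit_openImmersion g
  haveI := isIso_counit_openImmersion g'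
  obtain ⟨c⟩ := nonempty_res_rpush f f' g g' H
  let c' : DCoh.Rpush f ⋙ lP g ≅ lP g' ⋙ DCoh.Rpush f' :=
    Functor.isoWhiskerLeft _ (lPRes g) ≪≫ c ≪≫ Functor.isoWhiskerRight (lPRes g').symm _
  haveI : IsIso ((lP g').map ((adjLP g').unit.app E)) := by
    haveI : IsIso ((lP g').map ((adjLP g').unit.app E) ≫ (adjLP g').counit.app ((lP g').obj E)) := by
      exact (adjLP g').left_triangle_components E ▸ inferInstanceAs (IsIso (𝟙 ((lP g').obj E)))
    exact IsIso.of_isIso_comp_right _ ((adjLP g').counit.app ((lP g').obj E))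
  haveI : IsIso ((lP g).map ((DCoh.Rpush f).map ((adjLP g').unit.app E))) :=
    (NatIso.isIso_map_iff c' ((adjLP g').unit.app E)).2
      (inferInstanceAs (IsIso ((DCoh.Rpush f').map ((lP g').map ((adjLP g').unit.app E)))))
  exact isIso_bc_base adj adj' σ (adjLP g) (adjLP g') E

theorem good_open (f : X ⟶ Y) (f' : X' ⟶ Y') (g : Y' ⟶ Y) [IsOpenImmersion g] (g' : X' ⟶ X) [IsOpenImmersion g']
    (H : IsPullback f' g' g f) : Good f f' g g' :=
  fun _ _ adj adj' σ E _ => isIso_bc_open f f' g g' H adj adj' σ E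

/-- Factoring the base through an open immersion. -/
theorem good_base {W XW : Scheme.{u}} {f : X ⟶ Y} {f' : X' ⟶ Y'} {fW : XW ⟶ W} {j : W ⟶ Y} [IsOpenImmersion j]
    {i : XW ⟶ X} [IsOpenImmersion i] (H : IsPullback fW i j f) {g₁ : Y' ⟶ W} {g₁' : X' ⟶ XW} {g : Y' ⟶ Y}
    {g' : X' ⟶ X} (hg : g₁ ≫ j = g) (hg' : g₁' ≫ i = g') (hgood : Good fW f' g₁ g₁') : Good f f' g g' := by
  intro L L' adj adj' σ E hE
  haveI := isIso_counit_openImmersion j
  let σj : lP j ⋙ lP fW ≅ L ⋙ lP i := σOf H.w adj (adjLP fW)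
  let u : lP j ⋙ lP g₁ ≅ lP g := lPComp g₁ j hg
  let u' : lP i ⋙ lP g₁' ≅ lP g' := lPComp g₁' i hg'
  let σ' : (lP j ⋙ lP g₁) ⋙ L' ≅ L ⋙ lP i ⋙ lP g₁' :=
    Functor.isoWhiskerRight u L' ≪≫ σ ≪≫ Functor.isoWhiskerLeft L u'.symm
  let κ : lP j ⋙ (lP g₁ ⋙ L') ≅ lP j ⋙ (lP fW ⋙ lP g₁') :=
    (Functor.associator _ _ _).symm ≪≫ σ' ≪≫ (Functor.associator _ _ _).symm ≪≫
      Functor.isoWhiskerRight σj.symm _ ≪≫ Functor.associator _ _ _
  let σ₁ := descIso (adjLP j) κ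
  have hσ : σ'.hom = hPaste σj.hom σ₁.hom := by
    ext T
    rw [hPaste_app, descIso_app]
    simp only [κ, Iso.trans_hom, NatTrans.comp_app, Iso.symm_hom, Functor.associator_hom_app,
      Functor.associator_inv_app, Functor.isoWhiskerRight_hom, Functor.whiskerRight_app, Category.comp_id,
      Category.id_comp, Category.assoc]
    rw [← Functor.map_comp]
    erw [Iso.inv_hom_id_app]
    rw [CategoryTheory.Functor.map_id]
    exact (Category.comp_id _).symm
  have h1 : IsIso ((bc adj adj' σ'.hom).app E) := by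
    rw [hσ, bc_hPaste adj (adjLP fW) σj.hom adj' σ₁.hom]
    haveI := isIso_bc_open f fW j i H adj (adjLP fW) σj E
    haveI := hgood (adjLP fW) adj' σ₁ ((lP i).obj E) (isQCohD_lP i hE)
    infer_instance
  have h2 := bc_change adj adj' σ.hom u u' E
  have h3 : IsIso (u.hom.app ((DCoh.Rpush f).obj E) ≫ (bc adj adj' σ.hom).app E ≫
      (DCoh.Rpush f').map (u'.inv.app E)) := h2 ▸ h1
  haveI := h3
  haveI := IsIso.of_isIso_comp_left (u.hom.app ((DCoh.Rpush f).obj E))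
    ((bc adj adj' σ.hom).app E ≫ (DCoh.Rpush f').map (u'.inv.app E))
  exact IsIso.of_isIso_comp_right _ ((DCoh.Rpush f').map (u'.inv.app E))

/-- The base change map over an open of the new base. -/
theorem isIso_lP_map_bc {f : X ⟶ Y} {f' : X' ⟶ Y'} {g : Y' ⟶ Y} {g' : X' ⟶ X} {V W : Scheme.{u}} {j : V ⟶ Y'}
    [IsOpenImmersion j] {i : W ⟶ X'} [IsOpenImmersion i] {fV : W ⟶ V} (H : IsPullback fV i j f')
    (hg : Good f fV (j ≫ g) (i ≫ g')) {L : DCoh.D Y ⥤ DCoh.D X} {L' : DCoh.D Y' ⥤ DCoh.D X'}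
    (adj : L ⊣ DCoh.Rpush f) (adj' : L' ⊣ DCoh.Rpush f') (σ : lP g ⋙ L' ≅ L ⋙ lP g') (E : DCoh.D X)
    (hE : DCoh.IsQCohD E) : IsIso ((lP j).map ((bc adj adj' σ.hom).app E)) := by
  let τ : lP j ⋙ lP fV ≅ L' ⋙ lP i := σOf H.w adj' (adjLP fV)
  let u : lP (j ≫ g) ≅ lP g ⋙ lP j := (lPComp j g rfl).symm
  let u' : lP (i ≫ g') ≅ lP g' ⋙ lP i := (lPComp i g' rfl).symm
  haveI := isIso_hPaste σ τ
  let σV : lP (j ≫ g) ⋙ lP fV ≅ L ⋙ lP (i ≫ g') :=
    Functor.isoWhiskerRight u (lP fV) ≪≫ asIso (hPaste σ.hom τ.hom) ≪≫ Functor.isoWhiskerLeft L u'.symm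
  have h1 : IsIso ((bc adj (adjLP fV) σV.hom).app E) := hg adj (adjLP fV) σV E hE
  have h2 := bc_change adj (adjLP fV) (hPaste σ.hom τ.hom) u u' E
  have h3 : IsIso (u.hom.app ((DCoh.Rpush f).obj E) ≫ (bc adj (adjLP fV) (hPaste σ.hom τ.hom)).app E ≫
      (DCoh.Rpush fV).map (u'.inv.app E)) := h2 ▸ h1
  haveI := h3
  haveI := IsIso.of_isIso_comp_left (u.hom.app ((DCoh.Rpush f).obj E))
    ((bc adj (adjLP fV) (hPaste σ.hom τ.hom)).app E ≫ (DCoh.Rpush fV).map (u'.inv.app E))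
  haveI h4 : IsIso ((bc adj (adjLP fV) (hPaste σ.hom τ.hom)).app E) :=
    IsIso.of_isIso_comp_right _ ((DCoh.Rpush fV).map (u'.inv.app E))
  rw [bc_hPaste adj adj' σ.hom (adjLP fV) τ.hom] at h4
  haveI := h4
  haveI := isIso_bc_open f' fV j i H adj' (adjLP fV) τ ((lP g').obj E)
  exact IsIso.of_isIso_comp_right _ ((bc adj' (adjLP fV) τ.hom).app ((lP g').obj E))

/-- Base change is local on the new base. -/
theorem good_local {f : X ⟶ Y} {f' : X' ⟶ Y'} {g : Y' ⟶ Y} {g' : X' ⟶ X}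
    (h : ∀ y : Y', ∃ (V : Y'.Opens) (W : Scheme.{u}) (i : W ⟶ X') (_ : IsOpenImmersion i) (fV : W ⟶ V.toScheme)
      (_ : IsPullback fV i V.ι f'), y ∈ V ∧ Good f fV (V.ι ≫ g) (i ≫ g')) : Good f f' g g' := by
  intro L L' adj adj' σ E hE
  refine RHom.isIso_of_cover _ fun y => ?_
  obtain ⟨V, W, i, _, fV, H, hy, hg⟩ := h y
  exact ⟨V, hy, (NatIso.isIso_map_iff (lPRes V.ι) _).1 (isIso_lP_map_bc H hg adj adj' σ E hE)⟩

/-- Base change is invariant under isomorphisms of the new base. -/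
theorem good_isoBase {f : X ⟶ Y} {f' : X' ⟶ Y'} {g : Y' ⟶ Y} {g' : X' ⟶ X} {V W : Scheme.{u}} (e : V ⟶ Y')
    [IsIso e] (e' : W ⟶ X') [IsIso e'] (fV : W ⟶ V) (w : fV ≫ e = e' ≫ f')
    (hg : Good f fV (e ≫ g) (e' ≫ g')) : Good f f' g g' := by
  intro L L' adj adj' σ E hE
  haveI := isIso_lP_map_bc (IsPullback.of_horiz_isIso ⟨w.symm⟩).flip hg adj adj' σ E hE
  let c : lP e ⋙ lP (inv e) ≅ 𝟭 (DCoh.D Y') := lPComp (inv e) e (IsIso.inv_hom_id e) ≪≫ lPId Y'
  exact (NatIso.isIso_map_iff c _).1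
    (inferInstanceAs (IsIso ((lP (inv e)).map ((lP e).map ((bc adj adj' σ.hom).app E)))))

/-- Base change for objects pushed from an open. -/
theorem isIso_bc_push {U U' : Scheme.{u}} {f : X ⟶ Y} {f' : X' ⟶ Y'} {g : Y' ⟶ Y} {g' : X' ⟶ X} {j : U ⟶ X}
    {j' : U' ⟶ X'} {g'' : U' ⟶ U} (w : j' ≫ g' = g'' ≫ j) (h₁ : Good j j' g' g'')
    (h₂ : Good (j ≫ f) (j' ≫ f') g g'') {L : DCoh.D Y ⥤ DCoh.D X} {L' : DCoh.D Y' ⥤ DCoh.D X'}
    (adj : L ⊣ DCoh.Rpush f) (adj' : L' ⊣ DCoh.Rpush f') (σ : lP g ⋙ L' ≅ L ⋙ lP g') (F : DCoh.D U)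
    (hF : DCoh.IsQCohD F) : IsIso ((bc adj adj' σ.hom).app ((DCoh.Rpush j).obj F)) := by
  let ρ : lP g' ⋙ lP j' ≅ lP j ⋙ lP g'' := σcan w
  haveI := isIso_vPaste σ ρ
  let σp := asIso (vPaste σ.hom ρ.hom)
  have h := h₂ ((adj.comp (adjLP j)).ofNatIsoRight (DPush.compIso j f))
    ((adj'.comp (adjLP j')).ofNatIsoRight (DPush.compIso j' f')) σp F hF
  rw [bc_ofNatIsoRight] at h
  haveI := h
  haveI := IsIso.of_isIso_comp_left ((lP g).map ((DPush.compIso j f).inv.app F))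
    ((bc (adj.comp (adjLP j)) (adj'.comp (adjLP j')) σp.hom).app F ≫ (DPush.compIso j' f').hom.app ((lP g'').obj F))
  haveI : IsIso ((bc (adj.comp (adjLP j)) (adj'.comp (adjLP j')) (vPaste σ.hom ρ.hom)).app F ≫
      (DPush.compIso j' f').hom.app ((lP g'').obj F)) := ‹_›
  haveI h' : IsIso ((bc (adj.comp (adjLP j)) (adj'.comp (adjLP j')) (vPaste σ.hom ρ.hom)).app F) :=
    IsIso.of_isIso_comp_right _ ((DPush.compIso j' f').hom.app ((lP g'').obj F))
  rw [bc_vPaste adj adj' σ.hom (adjLP j) (adjLP j') ρ.hom] at h'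
  haveI := h'
  haveI := h₁ (adjLP j) (adjLP j') ρ F hF
  exact IsIso.of_isIso_comp_right _ ((DCoh.Rpush f').map ((bc (adjLP j) (adjLP j') ρ.hom).app F))

end Groth.Agent.DBC9
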