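import Groth.Agent.Lib.DBC9.QAff
import Mathlib.AlgebraicGeometry.Morphisms.Affine
import Mathlib.AlgebraicGeometry.Morphisms.Separated
import Groth.Prelude.Def_DCoh3

/-! Tor-independent base change for derived direct images. -/

set_option autoImplicit false
set_option linter.unusedSectionVars false
set_option linter.style.haveILetI false
set_option backward.isDefEq.respectTransparency false
set_option backward.isDefEq.respectTransparency.types false
set_option maxHeartbeats 800000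

universe u

open CategoryTheory CategoryTheory.Limits AlgebraicGeometry

attribute [local instance] HasDerivedCategory.standard

namespace Groth.Agent.DBC9

open DMon9

attribute [local instance] hasRpush

variable {X Y X' Y' : Scheme.{u}}

theorem isAffineOpen_inf {U V W : X.Opens} (hU : IsAffineOpen U) (hV : IsAffineOpen V) (hW : IsAffineOpen W)
    (hUW : U ≤ W) (hVW : V ≤ W) : IsAffineOpen (U ⊓ V) := by
  haveI : IsAffine W.toScheme := hW
  have h1 : IsAffineOpen (W.ι ⁻¹ᵁ U) :=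
    hU.preimage_of_isOpenImmersion W.ι (by rwa [Scheme.Opens.opensRange_ι])
  have h2 : IsAffineOpen (W.ι ⁻¹ᵁ V) :=
    hV.preimage_of_isOpenImmersion W.ι (by rwa [Scheme.Opens.opensRange_ι])
  have h3 := (h1.inf h2).image_of_isOpenImmersion W.ι
  rw [← Scheme.Hom.preimage_inf, Scheme.Hom.image_preimage_eq_opensRange_inf, Scheme.Opens.opensRange_ι,
    inf_eq_right.2 (inf_le_left.trans hUW)] at h3
  exact h3

section Induction

variable (f : X ⟶ Y) (g : Y' ⟶ Y) {U : Y.Opens} (hU : IsAffineOpen U) {U' : Y'.Opens} (hle : U' ≤ g ⁻¹ᵁ U)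

/-- Base change over an open of the source. -/
def OverOpen (S : X.Opens) : Prop :=
  ∀ (T T' : Scheme.{u}) (k : T ⟶ X) (_ : IsOpenImmersion k), k.opensRange = S → ∀ (fT : T ⟶ Spec Γ(Y, U)),
    fT ≫ hU.fromSpec = k ≫ f → ∀ (f'' : T' ⟶ Spec Γ(Y', U')) (g'' : T' ⟶ T),
      IsPullback g'' f'' fT (Spec.map (g.appLE U U' hle)) → Good fT f'' (Spec.map (g.appLE U U' hle)) g''

theorem overOpen_affine {V : X.Opens} (hV : IsAffineOpen V) (hVU : V ≤ f ⁻¹ᵁ U)
    (hT : TorIndep (g.appLE U U' hle).hom (f.appLE U V hVU).hom) : OverOpen f g hU hle V := by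
  intro T T' k _ hr fT hfT f'' g'' H
  let e := IsOpenImmersion.isoOfRangeEq hV.fromSpec k (by
    rw [← Scheme.Hom.coe_opensRange, ← Scheme.Hom.coe_opensRange, hr, IsAffineOpen.opensRange_fromSpec])
  refine good_affine (f.appLE U V hVU) _ hT fT e.hom ?_ f'' g'' H
  rw [← cancel_mono hU.fromSpec, Category.assoc, hfT, hU.SpecMap_appLE_fromSpec f hV hVU,
    ← Category.assoc, IsOpenImmersion.isoOfRangeEq_hom_fac]

theorem overOpen_union (hqs : IsQuasiSeparated (f ⁻¹ᵁ U : Set X)) {S V : X.Opens} (hS : IsCompact (S : Set X))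
    (hV : IsCompact (V : Set X)) (hSU : S ≤ f ⁻¹ᵁ U) (hVU : V ≤ f ⁻¹ᵁ U) (h₁ : OverOpen f g hU hle S)
    (h₂ : OverOpen f g hU hle V) (h₃ : OverOpen f g hU hle (S ⊓ V)) : OverOpen f g hU hle (S ⊔ V) := by
  intro T T' k _ hr fT hfT f'' g'' H
  have hpq : k ⁻¹ᵁ S ⊔ k ⁻¹ᵁ V = ⊤ := by
    rw [← Scheme.Hom.preimage_sup, ← hr]
    exact k.preimage_opensRange
  refine good_union (k ⁻¹ᵁ S) (k ⁻¹ᵁ V) hpq fun r hrpq => ?_
  obtain ⟨R, hR, hRS, hRc, hRo⟩ :
      ∃ R : X.Opens, r = k ⁻¹ᵁ R ∧ R ≤ S ⊔ V ∧ IsCompact (R : Set X) ∧ OverOpen f g hU hle R := by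
    rcases hrpq with rfl | rfl | rfl
    · exact ⟨S, rfl, le_sup_left, hS, h₁⟩
    · exact ⟨V, rfl, le_sup_right, hV, h₂⟩
    · exact ⟨S ⊓ V, rfl, inf_le_left.trans le_sup_left, hqs S V hSU S.2 hS hVU V.2 hV, h₃⟩
  have hsq : IsPullback (g'' ∣_ r) (g'' ⁻¹ᵁ r).ι r.ι g'' := isPullback_morphismRestrict g'' r
  refine ⟨good_qcOpen hsq fun W hW => ?_, ?_⟩
  · refine k.isOpenEmbedding.isInducing.isCompact_iff.2 ?_
    have hWk : ((k ''ᵁ W : X.Opens) : Set X) ⊆ (f ⁻¹ᵁ U : Set X) :=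
      fun x hx => sup_le hSU hVU (hr ▸ k.image_le_opensRange W hx : x ∈ S ⊔ V)
    have heq : k '' ((W : Set T) ∩ r.ι.opensRange) = ((k ''ᵁ W : X.Opens) : Set X) ∩ (R : Set X) := by
      rw [Scheme.Opens.opensRange_ι, hR]
      exact Set.image_inter_preimage k W R
    rw [heq]
    exact hqs _ R hWk (k ''ᵁ W).2 (hW.image_of_isOpenImmersion k).isCompact
      (fun x hx => sup_le hSU hVU (hRS hx)) R.2 hRc
  · refine hRo _ _ (r.ι ≫ k) inferInstance ?_ (r.ι ≫ fT) (by rw [Category.assoc, hfT, Category.assoc]) _ _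
      (hsq.paste_vert H)
    rw [Scheme.Hom.opensRange_comp, Scheme.Opens.opensRange_ι, hR, Scheme.Hom.image_preimage_eq_opensRange_inf,
      hr, inf_eq_right.2 hRS]

theorem overOpen_compact (hqs : IsQuasiSeparated (f ⁻¹ᵁ U : Set X))
    (hT : ∀ (V : X.Opens), IsAffineOpen V → ∀ hVU : V ≤ f ⁻¹ᵁ U,
      TorIndep (g.appLE U U' hle).hom (f.appLE U V hVU).hom)
    (S : X.Opens) (hS : IsCompact (S : Set X)) (hSU : S ≤ f ⁻¹ᵁ U) : OverOpen f g hU hle S := by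
  have aff : ∀ V : X.Opens, IsAffineOpen V → V ≤ f ⁻¹ᵁ U → OverOpen f g hU hle V := fun V hV hVU =>
    overOpen_affine f g hU hle hV hVU (hT V hV hVU)
  have bot : OverOpen f g hU hle ⊥ := aff ⊥ (isAffineOpen_bot X) bot_le
  have sep : ∀ V₀ : X.Opens, IsAffineOpen V₀ → V₀ ≤ f ⁻¹ᵁ U → ∀ S : X.Opens, IsCompact (S : Set X) →
      S ≤ V₀ → ∀ D : X.Opens, IsAffineOpen D → D ≤ V₀ → OverOpen f g hU hle (S ⊓ D) := by
    intro V₀ hV₀ hV₀U S hS
    refine compact_open_induction_on (P := fun S => S ≤ V₀ → ∀ D : X.Opens, IsAffineOpen D → D ≤ V₀ →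
      OverOpen f g hU hle (S ⊓ D)) S hS (fun _ D _ _ => by rw [bot_inf_eq]; exact bot) ?_
    intro S hS W hP hle₀ D hD hD₀
    have hW₀ : (W : X.Opens) ≤ V₀ := le_sup_right.trans hle₀
    have hWD : IsAffineOpen ((W : X.Opens) ⊓ D) := isAffineOpen_inf W.2 hD hV₀ hW₀ hD₀
    have hSD : IsCompact ((S ⊓ D : X.Opens) : Set X) :=
      hqs S D ((le_sup_left.trans hle₀).trans hV₀U) S.2 hS (hD₀.trans hV₀U) D.2 hD.isCompact
    rw [inf_sup_right]
    refine overOpen_union f g hU hle hqs hSD hWD.isCompact (inf_le_right.trans (hD₀.trans hV₀U))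
      (inf_le_left.trans (hW₀.trans hV₀U)) (hP (le_sup_left.trans hle₀) D hD hD₀) (aff _ hWD
        (inf_le_left.trans (hW₀.trans hV₀U))) ?_
    rw [show S ⊓ D ⊓ ((W : X.Opens) ⊓ D) = S ⊓ ((W : X.Opens) ⊓ D) by ac_rfl]
    exact hP (le_sup_left.trans hle₀) _ hWD (inf_le_left.trans hW₀)
  refine compact_open_induction_on (P := fun S => S ≤ f ⁻¹ᵁ U → OverOpen f g hU hle S) S hS (fun _ => bot) ?_ hSU
  intro S hS W hP hle₀
  have hWU : (W : X.Opens) ≤ f ⁻¹ᵁ U := le_sup_right.trans hle₀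
  have hSW : IsCompact ((S ⊓ (W : X.Opens) : X.Opens) : Set X) :=
    hqs S (W : X.Opens) (le_sup_left.trans hle₀) S.2 hS hWU (W : X.Opens).2 W.2.isCompact
  refine overOpen_union f g hU hle hqs hS W.2.isCompact (le_sup_left.trans hle₀) hWU
    (hP (le_sup_left.trans hle₀)) (aff _ W.2 hWU) ?_
  rw [show S ⊓ (W : X.Opens) = S ⊓ (W : X.Opens) ⊓ (W : X.Opens) by rw [inf_assoc, inf_idem]]
  exact sep _ W.2 hWU _ hSW inf_le_right _ W.2 le_rfl

end Induction

/-- Tor-independent base change. -/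
theorem good_main (f : X ⟶ Y) [QuasiCompact f] [QuasiSeparated f] (g : Y' ⟶ Y) (f' : X' ⟶ Y') (g' : X' ⟶ X)
    (hsq : IsPullback g' f' f g)
    (htor : ∀ (U : Y.Opens), IsAffineOpen U → ∀ (U' : Y'.Opens), IsAffineOpen U' → ∀ (hU' : U' ≤ g ⁻¹ᵁ U)
      (V : X.Opens), IsAffineOpen V → ∀ (hV : V ≤ f ⁻¹ᵁ U),
      TorIndep (g.appLE U U' hU').hom (f.appLE U V hV).hom) : Good f f' g g' :=
  good_of_affine hsq fun U hU U' hU' hle T T' k fT hk hT f'' g'' H => by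
    obtain ⟨_, hr⟩ := isOpenImmersion_of_pullback hT.flip
    refine overOpen_compact f g hU hle (f.isQuasiSeparated_preimage hU.isQuasiSeparated)
      (htor U hU U' hU' hle) (f ⁻¹ᵁ U) (f.isCompact_preimage hU.isCompact) le_rfl
      T T' k hk ?_ fT hT.w f'' g'' H
    rw [hr, IsAffineOpen.opensRange_fromSpec]

/-- Tor-independent base change, as the base change map of an adjunction. -/
theorem exists_baseChange_iso (f : X ⟶ Y) [QuasiCompact f] [QuasiSeparated f] (g : Y' ⟶ Y) (f' : X' ⟶ Y')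
    (g' : X' ⟶ X) (hsq : IsPullback g' f' f g)
    (htor : ∀ (U : Y.Opens), IsAffineOpen U → ∀ (U' : Y'.Opens), IsAffineOpen U' → ∀ (hU' : U' ≤ g ⁻¹ᵁ U)
      (V : X.Opens), IsAffineOpen V → ∀ (hV : V ≤ f ⁻¹ᵁ U),
      TorIndep (g.appLE U U' hU').hom (f.appLE U V hV).hom)
    [DCoh.HasRpush f] [DCoh.HasRpush g] [DCoh.HasLpull g] [DCoh.HasRpush f'] [DCoh.HasRpush g']
    [DCoh.HasLpull g'] (adjg : DCoh.Lpull g ⊣ DCoh.Rpush g) (adjg' : DCoh.Lpull g' ⊣ DCoh.Rpush g') :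
    ∃ e : DCoh.Rpush g' ⋙ DCoh.Rpush f ≅ DCoh.Rpush f' ⋙ DCoh.Rpush g,
      ∀ E : DCoh.D X, DCoh.IsQCohD E → IsIso (DCoh.baseChangeApp adjg adjg' e E) := by
  obtain ⟨ng⟩ := nonempty_lpull_natIso_lP g
  obtain ⟨ng'⟩ := nonempty_lpull_natIso_lP g'
  let σ : lP g ⋙ lP f' ≅ lP f ⋙ lP g' := σcan hsq.w.symm
  let σL : DCoh.Lpull g ⋙ lP f' ≅ lP f ⋙ DCoh.Lpull g' :=
    Functor.isoWhiskerRight ng (lP f') ≪≫ σ ≪≫ Functor.isoWhiskerLeft (lP f) ng'.symm
  refine ⟨rightIso (adjLP f) (adjLP f') σL adjg adjg', fun E hE => ?_⟩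
  haveI := good_main f g f' g' hsq htor (adjLP f) (adjLP f') σ E hE
  have h : IsIso ((bc (adjLP f) (adjLP f') σL.hom).app E) :=
    (bc_change (adjLP f) (adjLP f') σ.hom ng ng' E).symm ▸ inferInstance
  rw [bc_eq_transpose (adjLP f) (adjLP f') σL adjg adjg'] at h
  exact h

end Groth.Agent.DBC9
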