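import Groth.Agent.Lib.DBC9.Mate
import Groth.Agent.Lib.DBaseChange.Adj
import Groth.Agent.Lib.DMon9.Generate
import Groth.Agent.Lib.RHom.Five
import Groth.Agent.Lib.RHom.HomExact
import Groth.Agent.Lib.DCompact9.Ring
import Mathlib.CategoryTheory.Triangulated.Adjunction
import Groth.Prelude.Def_DDual2

/-! Base change for derived categories of modules. -/

set_option autoImplicit false
set_option linter.unusedSectionVars false
set_option linter.style.haveILetI false
set_option backward.isDefEq.respectTransparency false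
set_option backward.isDefEq.respectTransparency.types false
set_option maxHeartbeats 800000

universe u

open CategoryTheory CategoryTheory.Limits Pretriangulated
open scoped TensorProduct ChangeOfRings

attribute [local instance] HasDerivedCategory.standard

namespace Groth.Agent.DBC9

variable {A B : Type u} [CommRing A] [CommRing B] (φ : A →+* B)

/-- Modules in a single degree. -/
noncomputable abbrev TT (A : Type u) [CommRing A] (a : ℤ) : ModuleCat.{u} A ⥤ Dual.D A :=
  DerivedCategory.singleFunctor (ModuleCat.{u} A) a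

/-- Restriction of modules in a single degree. -/
noncomputable def ρT (a : ℤ) : TT B a ⋙ DRing.restrictD φ ≅ ModuleCat.restrictScalars φ ⋙ TT A a :=
  (ModuleCat.restrictScalars φ).mapDerivedCategorySingleFunctor a

/-- Derived base change of modules in a single degree maps to the base change. -/
noncomputable def νT [DRing.HasLBaseChange φ] (a : ℤ) :
    TT A a ⋙ DRing.LBaseChange φ ⟶ ModuleCat.extendScalars φ ⋙ TT B a where
  app M := (DBaseChange.valueMap φ).app ((HomologicalComplex.single (ModuleCat.{u} A) (ComplexShape.up ℤ) a).obj M) ≫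
    DerivedCategory.Q.map
      ((HomologicalComplex.singleMapHomologicalComplex (ModuleCat.extendScalars φ) (ComplexShape.up ℤ) a).hom.app M)
  naturality M N f := by
    have h1 := (DBaseChange.valueMap φ).naturality
      ((HomologicalComplex.single (ModuleCat.{u} A) (ComplexShape.up ℤ) a).map f)
    have h2 := congrArg DerivedCategory.Q.map
      ((HomologicalComplex.singleMapHomologicalComplex (ModuleCat.extendScalars φ) (ComplexShape.up ℤ) a).hom.naturality f)
    simp only [Functor.comp_map, Functor.map_comp] at h1 h2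
    change (DRing.LBaseChange φ).map (DerivedCategory.Q.map _) ≫ _ ≫ _ = _
    exact ((Category.assoc _ _ _).symm.trans ((congrArg (· ≫ _) h1).trans ((Category.assoc _ _ _).trans
      ((congrArg (_ ≫ ·) h2).trans (Category.assoc _ _ _).symm))))

theorem isIso_νT_of_flat [DRing.HasLBaseChange φ] (a : ℤ) (M : ModuleCat.{u} A) [Module.Flat A M] :
    IsIso ((νT φ a).app M) := by
  let P := (HomologicalComplex.single (ModuleCat.{u} A) (ComplexShape.up ℤ) a).obj M
  have hP : ∀ i, Module.Flat A (P.X i) := fun i => by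
    by_cases hi : i = a
    · subst hi
      exact Module.Flat.of_linearEquiv
        (HomologicalComplex.singleObjXSelf (ComplexShape.up ℤ) i M).toLinearEquiv
    · haveI : Subsingleton (P.X i) := ModuleCat.subsingleton_of_isZero
        (HomologicalComplex.isZero_single_obj_X (ComplexShape.up ℤ) a _ i hi)
      infer_instance
  haveI := DBaseChange.isIso_valueMap φ P (DBaseChange.adapted_of_flat P a hP)
  simp only [νT]
  infer_instance

/-- The element of a map out of the ring. -/
noncomputable def elMap (M : ModuleCat.{u} B) (m : M) :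
    ModuleCat.of A A ⟶ (ModuleCat.restrictScalars φ).obj M :=
  ConcreteCategory.ofHom (C := ModuleCat.{u} A) (X := ModuleCat.of A A) (Y := (ModuleCat.restrictScalars φ).obj M)
    (LinearMap.toSpanSingleton A ((ModuleCat.restrictScalars φ).obj M) m)

theorem elMap_one (M : ModuleCat.{u} B) (m : M) : elMap φ M m (1 : A) = m := by
  change (LinearMap.toSpanSingleton A ((ModuleCat.restrictScalars φ).obj M) m) 1 = m
  exact LinearMap.toSpanSingleton_apply_one A ((ModuleCat.restrictScalars φ).obj M) m

theorem elMap_comp {M N : ModuleCat.{u} B} (m : M) (f : M ⟶ N) :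
    elMap φ M m ≫ (ModuleCat.restrictScalars φ).map f = elMap φ N (f m) := by
  ext
  change f (elMap φ M m (1 : A)) = elMap φ N (f m) (1 : A)
  rw [elMap_one, elMap_one]

section Unit

variable [DRing.HasLBaseChange φ] {L : Dual.D A ⥤ Dual.D B} (adj : L ⊣ DRing.restrictD φ) (a : ℤ)
  (i : L.obj ((TT A a).obj (ModuleCat.of A A)) ≅ (TT B a).obj (ModuleCat.of B B))

include i

/-- Transposition through a generator. -/
theorem exists_generator :
    ∃ c : B, ∀ (N : ModuleCat.{u} B) (n : N), ∃ d : ModuleCat.of B B ⟶ N, (TT B a).map d =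
        i.inv ≫ (adj.homEquiv _ _).symm ((TT A a).map (elMap φ N n) ≫ (ρT φ a).inv.app N) ∧ d c = n := by
  let c₀ := (TT A a).preimage (adj.unit.app ((TT A a).obj (ModuleCat.of A A)) ≫
    (DRing.restrictD φ).map i.hom ≫ (ρT φ a).hom.app _)
  refine ⟨c₀ (1 : A), fun N n => ?_⟩
  obtain ⟨d, hd⟩ := (TT B a).map_surjective
    (i.inv ≫ (adj.homEquiv _ _).symm ((TT A a).map (elMap φ N n) ≫ (ρT φ a).inv.app N))
  refine ⟨d, hd, ?_⟩
  have h1 : elMap φ N n = c₀ ≫ (ModuleCat.restrictScalars φ).map d := by
    refine (TT A a).map_injective ?_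
    have hn := (ρT φ a).hom.naturality d
    simp only [Functor.comp_map] at hn
    simp only [c₀, Functor.map_comp, Functor.map_preimage, Category.assoc]
    rw [← hn, ← Functor.map_comp_assoc, hd, Iso.hom_inv_id_assoc]
    refine Eq.symm ((Category.assoc _ _ _).symm.trans ((congrArg (· ≫ _)
      ((adj.homEquiv_unit _ _ _).symm.trans (Equiv.apply_symm_apply _ _))).trans ?_))
    simp
  exact (congrArg (fun t => t.hom (1 : A)) h1).symm.trans (elMap_one φ N n)

/-- The generator is a unit, and maps out of the unit with invertible transpose pick out bases. -/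
theorem bijective_of_isIso_transpose (M : ModuleCat.{u} B) (m : M)
    (h : IsIso ((adj.homEquiv _ _).symm ((TT A a).map (elMap φ M m) ≫ (ρT φ a).inv.app M))) :
    Function.Bijective fun x : B => x • m := by
  obtain ⟨c, hc⟩ := exists_generator φ adj a i
  obtain ⟨d, hd, hdc⟩ := hc M m
  obtain ⟨e, -, hec⟩ := hc (ModuleCat.of B B) (1 : B)
  haveI := h
  haveI : IsIso ((TT B a).map d) := by
    rw [hd]
    infer_instance
  haveI : IsIso d := isIso_of_fully_faithful (TT B a) d
  have hu : IsUnit c := by
    refine IsUnit.of_mul_eq_one (e (1 : B) : B) ?_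
    refine Eq.trans ?_ hec
    refine Eq.trans (map_smul e.hom c (1 : B)).symm ?_
    exact congrArg e.hom (mul_one c)
  have hb : (fun x : B => x • m) = fun x : B => d (x * c) := funext fun x => by
    rw [← hdc]
    exact (map_smul d.hom x c).symm
  rw [hb]
  exact (ConcreteCategory.bijective_of_isIso d).comp ⟨fun x y hxy => hu.mul_right_cancel hxy, fun y => ⟨y * (hu.unit⁻¹ : Bˣ), by
    change y * (hu.unit⁻¹ : Bˣ) * c = y
    rw [mul_assoc, IsUnit.val_inv_mul, mul_one]⟩⟩

/-- The transpose of the structure map is invertible. -/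
theorem isIso_transpose_one :
    IsIso ((adj.homEquiv _ _).symm ((TT A a).map (elMap φ (ModuleCat.of B B) 1) ≫ (ρT φ a).inv.app _)) := by
  obtain ⟨c, hc⟩ := exists_generator φ adj a i
  obtain ⟨d, hd, hdc⟩ := hc (ModuleCat.of B B) (1 : B)
  have hfun : ∀ x : B, (d x : B) = x * (d (1 : B) : B) := fun x =>
    (congrArg d.hom (mul_one x).symm).trans (map_smul d.hom x (1 : B))
  have hu : IsUnit (d (1 : B) : B) := IsUnit.of_mul_eq_one c (by rw [mul_comm, ← hfun]; exact hdc)
  haveI : IsIso d := (ConcreteCategory.isIso_iff_bijective d).2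
    ⟨fun x y hxy => hu.mul_right_cancel (by rw [← hfun, ← hfun]; exact hxy),
      fun y => ⟨y * (hu.unit⁻¹ : Bˣ), by rw [hfun, mul_assoc, IsUnit.val_inv_mul, mul_one]⟩⟩
  haveI : IsIso (i.inv ≫ (adj.homEquiv _ _).symm
      ((TT A a).map (elMap φ (ModuleCat.of B B) 1) ≫ (ρT φ a).inv.app (ModuleCat.of B B))) := hd ▸ inferInstance
  exact IsIso.of_isIso_comp_left i.inv _

end Unit

section Square

variable {A' B' : Type u} [CommRing A'] [CommRing B'] (γ : A →+* A') (φ' : A' →+* B') (γ' : B →+* B')
  [DRing.HasLBaseChange φ] [DRing.HasLBaseChange γ] [DRing.HasLBaseChange φ'] [DRing.HasLBaseChange γ']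
  {L : Dual.D A ⥤ Dual.D B} (adj : L ⊣ DRing.restrictD φ)
  {L' : Dual.D A' ⥤ Dual.D B'} (adj' : L' ⊣ DRing.restrictD φ')
  (σ : DRing.LBaseChange γ ⋙ L' ≅ L ⋙ DRing.LBaseChange γ')

theorem exists_unitIso {A B : Type u} [CommRing A] [CommRing B] (φ : A →+* B) [DRing.HasLBaseChange φ]
    {L : Dual.D A ⥤ Dual.D B} (adj : L ⊣ DRing.restrictD φ) (a : ℤ) :
    Nonempty (L.obj ((TT A a).obj (ModuleCat.of A A)) ≅ (TT B a).obj (ModuleCat.of B B)) := by
  obtain ⟨adj₀⟩ := DBaseChange.nonempty_adjunction φ
  haveI := isIso_νT_of_flat φ a (ModuleCat.of A A)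
  letI := φ.toAlgebra
  exact ⟨(adj.leftAdjointUniq adj₀).app _ ≪≫ asIso ((νT φ a).app (ModuleCat.of A A)) ≪≫
    (TT B a).mapIso (LinearEquiv.toModuleIso (TensorProduct.AlgebraTensorModule.rid A B B))⟩

theorem isIso_bc_single (a : ℤ) (hν : IsIso ((νT γ a).app ((ModuleCat.restrictScalars φ).obj (ModuleCat.of B B))))
    (hpush : ∃ e : (ModuleCat.extendScalars γ).obj ((ModuleCat.restrictScalars φ).obj (ModuleCat.of B B)) ≅
      (ModuleCat.restrictScalars φ').obj (ModuleCat.of B' B'),
      ∀ b : B, e.hom ((1 : A') ⊗ₜ[A, γ] b) = γ' b) :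
    IsIso ((bc adj adj' σ.hom).app ((TT B a).obj (ModuleCat.of B B))) := by
  obtain ⟨i⟩ := exists_unitIso φ adj a
  obtain ⟨i'⟩ := exists_unitIso φ' adj' a
  letI := γ.toAlgebra
  letI := γ'.toAlgebra
  haveI := hν
  haveI := isIso_νT_of_flat γ a (ModuleCat.of A A)
  haveI := isIso_νT_of_flat γ' a (ModuleCat.of B B)
  let Bm := ModuleCat.of B B
  let N := (ModuleCat.restrictScalars φ).obj Bm
  let M' := (ModuleCat.extendScalars γ').obj Bm
  let β := (bc adj adj' σ.hom).app ((TT B a).obj Bm)
  let s : (DRing.LBaseChange γ).obj ((DRing.restrictD φ).obj ((TT B a).obj Bm)) ≅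
      (TT A' a).obj ((ModuleCat.extendScalars γ).obj N) :=
    (DRing.LBaseChange γ).mapIso ((ρT φ a).app Bm) ≪≫ asIso ((νT γ a).app N)
  let t : (DRing.restrictD φ').obj ((DRing.LBaseChange γ').obj ((TT B a).obj Bm)) ≅
      (TT A' a).obj ((ModuleCat.restrictScalars φ').obj M') :=
    (DRing.restrictD φ').mapIso (asIso ((νT γ' a).app Bm)) ≪≫ (ρT φ' a).app M'
  obtain ⟨ψ, hψ⟩ := (TT A' a).map_surjective (s.inv ≫ β ≫ t.hom)
  suffices IsIso ψ by
    haveI : IsIso (s.inv ≫ β ≫ t.hom) := hψ ▸ inferInstance
    haveI : IsIso (β ≫ t.hom) := IsIso.of_isIso_comp_left s.inv _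
    exact IsIso.of_isIso_comp_right β t.hom
  -- the structure maps
  let uu : ∀ b : B, (TT A a).obj (ModuleCat.of A A) ⟶ (DRing.restrictD φ).obj ((TT B a).obj Bm) := fun b =>
    (TT A a).map (elMap φ Bm b) ≫ (ρT φ a).inv.app Bm
  let one : (TT A' a).obj (ModuleCat.of A' A') ≅ (DRing.LBaseChange γ).obj ((TT A a).obj (ModuleCat.of A A)) :=
    (TT A' a).mapIso (LinearEquiv.toModuleIso (TensorProduct.AlgebraTensorModule.rid A A' A')).symm ≪≫
      (asIso ((νT γ a).app (ModuleCat.of A A))).symm
  let z := one.hom ≫ (DRing.LBaseChange γ).map (uu 1) ≫ β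
  obtain ⟨z₀, hz₀⟩ := (TT A' a).map_surjective (z ≫ t.hom)
  let m : M' := z₀ (1 : A')
  have hz₀' : z₀ = elMap φ' M' m := by
    ext
    exact (elMap_one φ' M' m).symm
  -- the transpose of `z` is invertible
  have hw : IsIso ((adj'.homEquiv _ _).symm ((TT A' a).map (elMap φ' M' m) ≫ (ρT φ' a).inv.app M')) := by
    haveI := isIso_transpose_one φ adj a i
    have e1 : (TT A' a).map (elMap φ' M' m) ≫ (ρT φ' a).inv.app M' =
        z ≫ (DRing.restrictD φ').map ((νT γ' a).app Bm) := by
      rw [← hz₀', hz₀, Category.assoc]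
      refine congrArg (z ≫ ·) ?_
      simp [t]
      exact Category.comp_id _
    rw [e1, Adjunction.homEquiv_naturality_right_symm]
    suffices IsIso ((adj'.homEquiv _ _).symm z) by infer_instance
    have e2 : (adj'.homEquiv _ _).symm z = L'.map one.hom ≫ σ.hom.app _ ≫
        (DRing.LBaseChange γ').map ((adj.homEquiv _ _).symm (uu 1)) := by
      have hn := σ.hom.naturality (uu 1)
      simp only [Functor.comp_map] at hn
      simp only [z, Adjunction.homEquiv_counit, Functor.map_comp, Category.assoc, β]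
      rw [map_bc_counit, reassoc_of% hn]
    rw [e2]
    infer_instance
  have hbij := bijective_of_isIso_transpose φ' adj' a i' M' m hw
  -- the values
  have hψ₁ : ∀ b : B, ψ ((1 : A') ⊗ₜ[A, γ] b) = γ' b • m := by
    intro b
    let mb : Bm ⟶ Bm := b • 𝟙 Bm
    have hm : elMap φ Bm (1 : B) ≫ (ModuleCat.restrictScalars φ).map mb = elMap φ Bm b := by
      rw [elMap_comp]
      congr 1
      exact mul_one b
    have hu : uu b = uu 1 ≫ (DRing.restrictD φ).map ((TT B a).map mb) := by
      have hn := (ρT φ a).inv.naturality mb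
      simp only [Functor.comp_map] at hn
      simp only [uu, Category.assoc]
      rw [← hn, ← Functor.map_comp_assoc, hm]
    have h1 : (LinearEquiv.toModuleIso (TensorProduct.AlgebraTensorModule.rid A A' A')).inv ≫
        (ModuleCat.extendScalars γ).map (elMap φ Bm b) ≫ ψ =
        z₀ ≫ (ModuleCat.restrictScalars φ').map ((ModuleCat.extendScalars γ').map mb) := by
      refine (TT A' a).map_injective ?_
      have n1 := (νT γ a).naturality (elMap φ Bm b)
      have n2 := (bc adj adj' σ.hom).naturality ((TT B a).map mb)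
      have n3 := (νT γ' a).naturality mb
      have n4 := (ρT φ' a).hom.naturality ((ModuleCat.extendScalars γ').map mb)
      simp only [Functor.comp_map] at n1 n2 n3 n4
      simp only [Functor.map_comp, hψ, hz₀, Category.assoc]
      rw [← cancel_epi ((TT A' a).map (LinearEquiv.toModuleIso (TensorProduct.AlgebraTensorModule.rid A A' A')).hom),
        ← cancel_epi ((νT γ a).app (ModuleCat.of A A)), ← Functor.map_comp_assoc, Iso.hom_inv_id,
        CategoryTheory.Functor.map_id, Category.id_comp, ← reassoc_of% n1]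
      simp only [z, one, s, t, uu, β, Iso.trans_hom, Iso.trans_inv, Iso.symm_hom, Functor.mapIso_hom, Functor.mapIso_inv,
        asIso_hom, asIso_inv, Iso.app_hom, Iso.app_inv, Category.assoc, IsIso.hom_inv_id_assoc, Functor.map_comp,
        IsIso.inv_hom_id_assoc, Iso.hom_inv_id_app_assoc]
      rw [← Functor.map_comp_assoc (TT A' a), Iso.hom_inv_id, CategoryTheory.Functor.map_id, Category.id_comp,
        IsIso.hom_inv_id_assoc, ← n4, ← Functor.map_comp_assoc (DRing.restrictD φ') ((νT γ' a).app Bm), ← n3,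
        Functor.map_comp, Category.assoc, ← reassoc_of% n2, ← Functor.map_comp_assoc (DRing.LBaseChange γ),
        ← Functor.map_comp_assoc (DRing.LBaseChange γ)]
      refine Eq.trans ?_ (IsIso.hom_inv_id_assoc _ _).symm
      rw [← Functor.map_comp_assoc, Category.assoc]
      simp only [uu, Category.assoc] at hu
      exact congrArg (fun k => (DRing.LBaseChange γ).map k ≫ _) hu
    have h2 := congrArg (fun k => k.hom (1 : A')) h1
    simp only [ModuleCat.hom_comp, LinearMap.comp_apply] at h2
    refine Eq.trans ?_ (h2.trans ?_)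
    · exact congrArg (fun y : (ModuleCat.restrictScalars φ).obj Bm => ψ ((1 : A') ⊗ₜ[A, γ] y)) (elMap_one φ Bm b).symm
    · change (ModuleCat.extendScalars γ').map mb m = γ' b • m
      generalize m = x
      induction x using TensorProduct.induction_on with
      | zero => simp
      | add p q hp hq => rw [map_add, hp, hq, smul_add]
      | tmul r q =>
        exact (TensorProduct.smul_tmul (R := B) b r q).symm
  obtain ⟨e, he⟩ := hpush
  let μ : ModuleCat.of B' B' ⟶ M' := ModuleCat.ofHom (LinearMap.toSpanSingleton B' M' m)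
  haveI : IsIso μ := (ConcreteCategory.isIso_iff_bijective μ).2 hbij
  have : ψ = e.hom ≫ (ModuleCat.restrictScalars φ').map μ := by
    refine ModuleCat.ExtendScalars.hom_ext (f := γ) fun b => ?_
    rw [hψ₁]
    change γ' b • m = μ (e.hom ((1 : A') ⊗ₜ[A, γ] b))
    rw [he]
    rfl
  rw [this]
  infer_instance

theorem preservesCoproducts_restrictD {A B : Type u} [CommRing A] [CommRing B] (φ : A →+* B) (ι : Type u) :
    PreservesColimitsOfShape (Discrete ι) (DRing.restrictD φ) := by
  haveI : (ModuleCat.coextendScalars.{u} φ).Additive := (ModuleCat.restrictCoextendScalarsAdj.{u} φ).right_adjoint_additive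
  haveI : PreservesColimitsOfShape (Discrete ι)
      ((ModuleCat.restrictScalars.{u} φ).mapHomologicalComplex (ComplexShape.up ℤ)) :=
    (KInjLib.adjComplexes (ModuleCat.restrictCoextendScalarsAdj.{u} φ)
      (ComplexShape.up ℤ)).leftAdjoint_preservesColimits.preservesColimitsOfShape
  exact RHom.preservesCoproducts_of_adapted (fun Z => preservesColimit_of_preserves_colimit_cocone (coproductIsCoproduct Z)
      ((Cofan.isColimitMapCoconeEquiv _ _ _).symm (KInjLib.isColimitSigma Z)))
    (DRing.restrictD φ) (fun _ => True) (fun K => ⟨K, 𝟙 K, trivial, inferInstance⟩) (fun _ _ => trivial)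
    (ModuleCat.restrictScalars φ).mapDerivedCategoryFactors.hom fun K _ => inferInstance

theorem five_app {X Y : Type*} [Category* X] [Category* Y] [HasZeroObject X] [HasShift X ℤ] [Preadditive X]
    [∀ n : ℤ, (shiftFunctor X n).Additive] [Pretriangulated X] [Abelian Y] {F G : X ⥤ Y} [F.IsHomological]
    [G.IsHomological] (τ : F ⟶ G) (T : Triangle X) (hT : T ∈ distTriang _)
    (h₁ : IsIso (τ.app T.obj₁)) (h₂ : IsIso (τ.app T.obj₂))
    (h₁' : IsIso (τ.app (T.obj₁⟦(1 : ℤ)⟧))) (h₂' : IsIso (τ.app (T.obj₂⟦(1 : ℤ)⟧))) : IsIso (τ.app T.obj₃) := by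
  have r₁ := rot_of_distTriang _ hT
  have r₂ := rot_of_distTriang _ r₁
  exact RHom.five_isIso (F.map_distinguished_exact T hT) (F.map_distinguished_exact _ r₁)
    (F.map_distinguished_exact _ r₂) (G.map_distinguished_exact T hT) (G.map_distinguished_exact _ r₁)
    (G.map_distinguished_exact _ r₂) (τ.naturality _) (τ.naturality _) (τ.naturality _) (τ.naturality _)
    h₁ h₂ h₁' h₂'

/-- Base change for modules. -/
theorem isIso_bc_algebra (hν : ∀ a, IsIso ((νT γ a).app ((ModuleCat.restrictScalars φ).obj (ModuleCat.of B B))))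
    (hpush : ∃ e : (ModuleCat.extendScalars γ).obj ((ModuleCat.restrictScalars φ).obj (ModuleCat.of B B)) ≅
      (ModuleCat.restrictScalars φ').obj (ModuleCat.of B' B'),
      ∀ b : B, e.hom ((1 : A') ⊗ₜ[A, γ] b) = γ' b)
    (M : Dual.D B) : IsIso ((bc adj adj' σ.hom).app M) := by
  obtain ⟨aγ⟩ := DBaseChange.nonempty_adjunction γ
  obtain ⟨aγ'⟩ := DBaseChange.nonempty_adjunction γ'
  letI := aγ.leftAdjointCommShift ℤ
  letI := aγ'.leftAdjointCommShift ℤ
  haveI := aγ.commShift_of_rightAdjoint ℤ
  haveI := aγ'.commShift_of_rightAdjoint ℤ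
  haveI : (DRing.LBaseChange γ).IsTriangulated := aγ.isTriangulated_leftAdjoint
  haveI : (DRing.LBaseChange γ').IsTriangulated := aγ'.isTriangulated_leftAdjoint
  haveI : ∀ ι : Type u, PreservesColimitsOfShape (Discrete ι) (DRing.LBaseChange γ) := fun _ =>
    aγ.leftAdjoint_preservesColimits.preservesColimitsOfShape
  haveI : ∀ ι : Type u, PreservesColimitsOfShape (Discrete ι) (DRing.LBaseChange γ') := fun _ =>
    aγ'.leftAdjoint_preservesColimits.preservesColimitsOfShape
  let τ := bc adj adj' σ.hom
  let P : Dual.D B → Prop := fun N => ∀ n : ℤ, IsIso (τ.app (N⟦n⟧))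
  have hP : DMon9.Loc P :=
    { iso := fun e h n => (NatTrans.isIso_app_iff_of_iso _ ((shiftFunctor _ n).mapIso e)).1 (h n)
      zero := fun {Z} hZ n => by
        have hz : IsZero (Z⟦n⟧) := (shiftFunctor _ n).map_isZero hZ
        exact ((DRing.restrictD φ ⋙ DRing.LBaseChange γ).map_isZero hz).isIso
          ((DRing.LBaseChange γ' ⋙ DRing.restrictD φ').map_isZero hz) _
      shift := fun {Z} m h n => (NatTrans.isIso_app_iff_of_iso _ ((shiftFunctorAdd _ m n).app Z)).1 (h (m + n))
      cone := fun T₀ hT₀ h₁ h₂ n => by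
        have hd := Triangle.shift_distinguished T₀ hT₀ n
        rw [DerivedCategory.isIso_iff]
        intro j
        let H := DerivedCategory.homologyFunctor (ModuleCat.{u} A') j
        have hs : ∀ N : Dual.D B, P N → IsIso (τ.app ((N⟦n⟧)⟦(1 : ℤ)⟧)) := fun N hN =>
          (NatTrans.isIso_app_iff_of_iso _ ((shiftFunctorAdd _ n (1 : ℤ)).app N)).1 (hN (n + 1))
        have hmap : ∀ N : Dual.D B, IsIso (τ.app N) → IsIso ((Functor.whiskerRight τ H).app N) := fun N hN =>
          haveI := hN
          inferInstanceAs (IsIso (H.map (τ.app N)))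
        exact five_app (Functor.whiskerRight τ H) _ hd
          (hmap _ (h₁ n)) (hmap _ (h₂ n)) (hmap _ (hs _ h₁)) (hmap _ (hs _ h₂))
      coprod := fun {ι} Z h n => by
        haveI := DCompact9.preservesColimitsOfShape_Q (R := B) (Equiv.refl ι)
        haveI := preservesCoproducts_restrictD φ ι
        haveI := preservesCoproducts_restrictD φ' ι
        let H : CochainComplex (ModuleCat.{u} B) ℤ ⥤ Dual.D B := DerivedCategory.Q ⋙ shiftFunctor _ n
        exact RHom.isIso_app_of_isColimit τ (isColimitOfPreserves H (coproductIsCoproduct Z)) fun i => h i.as n }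
  have hgen : ∀ a : ℤ, P (DerivedCategory.Q.obj
      ((HomologicalComplex.single (ModuleCat.{u} B) (ComplexShape.up ℤ) a).obj (ModuleCat.of B B))) := by
    intro a n
    let sh : (DerivedCategory.Q.obj ((HomologicalComplex.single (ModuleCat.{u} B) (ComplexShape.up ℤ) a).obj
        (ModuleCat.of B B)))⟦n⟧ ≅ (TT B (a - n)).obj (ModuleCat.of B B) :=
      ((DerivedCategory.singleFunctors (ModuleCat.{u} B)).shiftIso n (a - n) a (by omega)).app _
    exact (NatTrans.isIso_app_iff_of_iso _ sh).2 (isIso_bc_single φ γ φ' γ' adj adj' σ (a - n) (hν _) hpush)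
  have hsep : IsSeparator (ModuleCat.of B B) := (isSeparator_def _).2 fun {P Q} g g' hh => by
    ext x
    have h1 := congrArg (fun t => t.hom 1) (hh (ModuleCat.ofHom (LinearMap.toSpanSingleton B P x)))
    simpa using h1
  have h := hP.all (ModuleCat.of B B) hsep hgen M 0
  exact (NatTrans.isIso_app_iff_of_iso _ ((shiftFunctorZero _ ℤ).app M)).1 h

end Square

end Groth.Agent.DBC9
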