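import Groth.Agent.Lib.DBC9.Sq
import Groth.Agent.Lib.DMV.Perfect

/-! Mayer-Vietoris for base change. -/

set_option autoImplicit false
set_option linter.unusedSectionVars false
set_option linter.style.haveILetI false
set_option backward.isDefEq.respectTransparency false
set_option backward.isDefEq.respectTransparency.types false
set_option maxHeartbeats 800000

universe u

open CategoryTheory CategoryTheory.Limits AlgebraicGeometry Pretriangulated

attribute [local instance] HasDerivedCategory.standard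

namespace Groth.Agent.DBC9

open DMon9

attribute [local instance] hasRpush

theorem isIso_app_biprod {C D : Type*} [Category* C] [Category* D] [Preadditive C] [Preadditive D]
    [HasBinaryBiproducts C] [HasBinaryBiproducts D] {F G : C ⥤ D} [F.Additive] [G.Additive] (τ : F ⟶ G) (A B : C)
    (hA : IsIso (τ.app A)) (hB : IsIso (τ.app B)) : IsIso (τ.app (A ⊞ B)) := by
  haveI := preservesBinaryBiproducts_of_preservesBiproducts F
  haveI := preservesBinaryBiproducts_of_preservesBiproducts G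
  have h : τ.app (A ⊞ B) = (F.mapBiprod A B).hom ≫ biprod.map (τ.app A) (τ.app B) ≫ (G.mapBiprod A B).inv := by
    rw [← Category.assoc, Iso.eq_comp_inv]
    apply biprod.hom_ext <;> simp [← G.map_comp]
  rw [h]
  haveI : IsIso (biprod.map (τ.app A) (τ.app B)) := (biprod.mapIso (asIso (τ.app A)) (asIso (τ.app B))).isIso_hom
  infer_instance

variable {X Y X' Y' : Scheme.{u}}

/-- Base change on a union of two opens. -/
theorem good_union {f : X ⟶ Y} {f' : X' ⟶ Y'} {g : Y' ⟶ Y} {g' : X' ⟶ X} (p q : X.Opens) (hpq : p ⊔ q = ⊤)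
    (h : ∀ r : X.Opens, r = p ∨ r = q ∨ r = p ⊓ q →
      Good r.ι (g' ⁻¹ᵁ r).ι g' (g' ∣_ r) ∧ Good (r.ι ≫ f) ((g' ⁻¹ᵁ r).ι ≫ f') g (g' ∣_ r)) : Good f f' g g' := by
  intro L L' adj adj' σ E hE
  let τ := bc adj adj' σ.hom
  obtain ⟨cf, htf⟩ := DPush.exists_commShift_isTriangulated f
  obtain ⟨cf', htf'⟩ := DPush.exists_commShift_isTriangulated f'
  obtain ⟨cg, htg⟩ := DPush.exists_commShift_isTriangulated g
  obtain ⟨cg', htg'⟩ := DPush.exists_commShift_isTriangulated g'
  letI := (adjLP g).leftAdjointCommShift ℤ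
  letI := (adjLP g').leftAdjointCommShift ℤ
  haveI := (adjLP g).commShift_of_rightAdjoint ℤ
  haveI := (adjLP g').commShift_of_rightAdjoint ℤ
  haveI : (lP g).IsTriangulated := (adjLP g).isTriangulated_leftAdjoint
  haveI : (lP g').IsTriangulated := (adjLP g').isTriangulated_leftAdjoint
  have hr : ∀ r : X.Opens, r = p ∨ r = q ∨ r = p ⊓ q → ∀ E : DCoh.D X, DCoh.IsQCohD E →
      IsIso (τ.app ((DCoh.Rpush r.ι).obj ((DPerf.resD r.ι).obj E))) ∧
      IsIso (τ.app (((DCoh.Rpush r.ι).obj ((DPerf.resD r.ι).obj E))⟦(1 : ℤ)⟧)) := fun r hr E hE => by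
    obtain ⟨cr, htr⟩ := DPush.exists_commShift_isTriangulated r.ι
    have w : (g' ⁻¹ᵁ r).ι ≫ g' = (g' ∣_ r) ≫ r.ι := (morphismRestrict_ι g' r).symm
    exact ⟨isIso_bc_push w (h r hr).1 (h r hr).2 adj adj' σ _ (DQC.isQCohD_resD r.ι hE),
      (NatTrans.isIso_app_iff_of_iso τ (((DCoh.Rpush r.ι).commShiftIso (1 : ℤ)).app _)).1
        (isIso_bc_push w (h r hr).1 (h r hr).2 adj adj' σ _
          (DMV.isQCohD_shift _ (DQC.isQCohD_resD r.ι hE) 1))⟩
  have main : ∀ E : DCoh.D X, DCoh.IsQCohD E → IsIso (τ.app (E⟦(1 : ℤ)⟧)) := fun E hE => by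
    obtain ⟨a, b, c, hT⟩ := DMV.exists_open_triangle p q hpq E
    obtain ⟨hp₀, hp₁⟩ := hr p (Or.inl rfl) E hE
    obtain ⟨hq₀, hq₁⟩ := hr q (Or.inr (Or.inl rfl)) E hE
    obtain ⟨hpq₀, hpq₁⟩ := hr (p ⊓ q) (Or.inr (Or.inr rfl)) E hE
    have hsum := isIso_app_biprod τ _ _ hp₀ hq₀
    haveI := preservesBinaryBiproducts_of_preservesBiproducts (shiftFunctor (DCoh.D X) (1 : ℤ))
    have hsum₁ := (NatTrans.isIso_app_iff_of_iso τ
      ((shiftFunctor (DCoh.D X) (1 : ℤ)).mapBiprod _ _).symm).1 (isIso_app_biprod τ _ _ hp₁ hq₁)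
    rw [DerivedCategory.isIso_iff]
    intro j
    let H := DerivedCategory.homologyFunctor Y'.Modules j
    have hmap : ∀ N : DCoh.D X, IsIso (τ.app N) → IsIso ((Functor.whiskerRight τ H).app N) := fun N hN =>
      haveI := hN
      inferInstanceAs (IsIso (H.map (τ.app N)))
    exact five_app (Functor.whiskerRight τ H) _ (rot_of_distTriang _ hT) (hmap _ hsum) (hmap _ hpq₀)
      (hmap _ hsum₁) (hmap _ hpq₁)
  exact (NatTrans.isIso_app_iff_of_iso τ ((shiftFunctorCompIsoId (DCoh.D X) (-1 : ℤ) 1 (by simp)).app E)).1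
    (main _ (DMV.isQCohD_shift E hE (-1)))

end Groth.Agent.DBC9
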