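import Mathlib.CategoryTheory.Adjunction.Mates
import Mathlib.CategoryTheory.Adjunction.Restrict
import Mathlib.CategoryTheory.Adjunction.FullyFaithful
import Mathlib.CategoryTheory.Adjunction.CompositionIso

/-! Base change transformations attached to a square of left adjoints. -/

set_option autoImplicit false
set_option linter.unusedSectionVars false
set_option backward.isDefEq.respectTransparency false
set_option backward.isDefEq.respectTransparency.types false
set_option maxHeartbeats 800000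

open CategoryTheory

namespace Groth.Agent.DBC9

section Basic

variable {A A' B B' : Type*} [Category* A] [Category* A'] [Category* B] [Category* B']
  {G : A ⥤ A'} {G' : B ⥤ B'} {L : A ⥤ B} {R : B ⥤ A} {L' : A' ⥤ B'} {R' : B' ⥤ A'}
  (adj : L ⊣ R) (adj' : L' ⊣ R') (σ : G ⋙ L' ⟶ L ⋙ G')

/-- The base change transformation. -/
def bc : R ⋙ G ⟶ G' ⋙ R' where
  app E := adj'.homEquiv _ _ (σ.app (R.obj E) ≫ G'.map (adj.counit.app E))
  naturality E F φ := by
    have h := σ.naturality (R.map φ)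
    dsimp at h ⊢
    rw [← Adjunction.homEquiv_naturality_left, ← Adjunction.homEquiv_naturality_right, reassoc_of% h,
      Category.assoc, ← G'.map_comp, ← G'.map_comp]
    congr 3
    exact adj.counit.naturality φ

theorem bc_app (E : B) :
    (bc adj adj' σ).app E = adj'.homEquiv _ _ (σ.app (R.obj E) ≫ G'.map (adj.counit.app E)) := rfl

theorem map_bc_counit (E : B) :
    L'.map ((bc adj adj' σ).app E) ≫ adj'.counit.app (G'.obj E) = σ.app (R.obj E) ≫ G'.map (adj.counit.app E) := by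
  exact (adj'.homEquiv_counit _ _ _).symm.trans (Equiv.symm_apply_apply _ _)

theorem bc_app_eq {E : B} (b : G.obj (R.obj E) ⟶ R'.obj (G'.obj E))
    (h : L'.map b ≫ adj'.counit.app (G'.obj E) = σ.app (R.obj E) ≫ G'.map (adj.counit.app E)) :
    (bc adj adj' σ).app E = b := by
  rw [bc_app, ← h]
  exact (congrArg _ (adj'.homEquiv_counit _ _ b).symm).trans (Equiv.apply_symm_apply _ _)

/-- The vertical maps are equivalences at the object. -/
theorem isIso_bc_of_units (E : B) [IsIso (adj.counit.app E)] [IsIso (adj'.unit.app (G.obj (R.obj E)))]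
    [IsIso (σ.app (R.obj E))] : IsIso ((bc adj adj' σ).app E) := by
  rw [bc_app, Adjunction.homEquiv_unit]
  infer_instance

/-- Changing the horizontal functors. -/
theorem bc_change {G₁ : A ⥤ A'} {G₁' : B ⥤ B'} (u : G₁ ≅ G) (u' : G₁' ≅ G') (E : B) :
    (bc adj adj' (Functor.whiskerRight u.hom L' ≫ σ ≫ Functor.whiskerLeft L u'.inv)).app E =
      u.hom.app (R.obj E) ≫ (bc adj adj' σ).app E ≫ R'.map (u'.inv.app E) := by
  refine bc_app_eq _ _ _ _ ?_
  have h1 := adj'.counit.naturality (u'.inv.app E)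
  have h2 := u'.inv.naturality (adj.counit.app E)
  dsimp at h1 h2 ⊢
  simp only [Functor.map_comp, Category.assoc]
  rw [h1, reassoc_of% (map_bc_counit adj adj' σ E), h2]

/-- Changing the right adjoints. -/
theorem bc_ofNatIsoRight {R₂ : B ⥤ A} {R₂' : B' ⥤ A'} (c : R ≅ R₂) (c' : R' ≅ R₂') (E : B) :
    (bc (adj.ofNatIsoRight c) (adj'.ofNatIsoRight c') σ).app E =
      G.map (c.inv.app E) ≫ (bc adj adj' σ).app E ≫ c'.hom.app (G'.obj E) := by
  refine bc_app_eq _ _ _ _ ?_
  have h1 : ∀ (Y : B), (adj.ofNatIsoRight c).counit.app Y = L.map (c.inv.app Y) ≫ adj.counit.app Y := fun Y => by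
    simp [Adjunction.ofNatIsoRight, Adjunction.mkOfHomEquiv, Adjunction.homEquiv_counit, Adjunction.equivHomsetRightOfNatIso]
  have h2 : ∀ (Y : B'), (adj'.ofNatIsoRight c').counit.app Y = L'.map (c'.inv.app Y) ≫ adj'.counit.app Y := fun Y => by
    simp [Adjunction.ofNatIsoRight, Adjunction.mkOfHomEquiv, Adjunction.homEquiv_counit, Adjunction.equivHomsetRightOfNatIso]
  have h3 := σ.naturality (c.inv.app E)
  dsimp at h3
  simp only [h1, h2, Functor.map_comp, Category.assoc]
  rw [← reassoc_of% h3, ← map_bc_counit adj adj' σ E, ← L'.map_comp_assoc (c'.hom.app _) (c'.inv.app _),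
    Iso.hom_inv_id_app, L'.map_id, Category.id_comp]

end Basic

section Paste

variable {A A' A'' B B' B'' C C' : Type*} [Category* A] [Category* A'] [Category* A''] [Category* B] [Category* B']
  [Category* B''] [Category* C] [Category* C']
  {G : A ⥤ A'} {G' : B ⥤ B'} {L : A ⥤ B} {R : B ⥤ A} {L' : A' ⥤ B'} {R' : B' ⥤ A'}
  (adj : L ⊣ R) (adj' : L' ⊣ R') (σ : G ⋙ L' ⟶ L ⋙ G')
  {H : A' ⥤ A''} {H' : B' ⥤ B''} {L'' : A'' ⥤ B''} {R'' : B'' ⥤ A''} (adj'' : L'' ⊣ R'')
  (τ : H ⋙ L'' ⟶ L' ⋙ H')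

/-- Pasting along the base. -/
def hPaste : (G ⋙ H) ⋙ L'' ⟶ L ⋙ G' ⋙ H' :=
  (Functor.associator _ _ _).hom ≫ Functor.whiskerLeft G τ ≫ (Functor.associator _ _ _).inv ≫
    Functor.whiskerRight σ H' ≫ (Functor.associator _ _ _).hom

theorem hPaste_app (X : A) : (hPaste σ τ).app X = τ.app (G.obj X) ≫ H'.map (σ.app X) := by
  simp [hPaste]

/-- Pasting along the base, on base change maps. -/
theorem bc_hPaste (E : B) :
    (bc adj adj'' (hPaste σ τ)).app E = H.map ((bc adj adj' σ).app E) ≫ (bc adj' adj'' τ).app (G'.obj E) := by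
  refine bc_app_eq _ _ _ _ ?_
  have h := τ.naturality ((bc adj adj' σ).app E)
  dsimp at h ⊢
  rw [Functor.map_comp, Category.assoc, map_bc_counit, reassoc_of% h, ← H'.map_comp, map_bc_counit, H'.map_comp,
    hPaste_app, Category.assoc]

variable {G'' : C ⥤ C'} {K : B ⥤ C} {S : C ⥤ B} {K' : B' ⥤ C'} {S' : C' ⥤ B'} (adjK : K ⊣ S) (adjK' : K' ⊣ S')
  (ρ : G' ⋙ K' ⟶ K ⋙ G'')

/-- Pasting along the source. -/
def vPaste : G ⋙ (L' ⋙ K') ⟶ (L ⋙ K) ⋙ G'' :=
  (Functor.associator _ _ _).inv ≫ Functor.whiskerRight σ K' ≫ (Functor.associator _ _ _).hom ≫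
    Functor.whiskerLeft L ρ ≫ (Functor.associator _ _ _).inv

theorem vPaste_app (X : A) : (vPaste σ ρ).app X = K'.map (σ.app X) ≫ ρ.app (L.obj X) := by
  simp [vPaste]

/-- Pasting along the source, on base change maps. -/
theorem bc_vPaste (F : C) :
    (bc (adj.comp adjK) (adj'.comp adjK') (vPaste σ ρ)).app F =
      (bc adj adj' σ).app (S.obj F) ≫ R'.map ((bc adjK adjK' ρ).app F) := by
  refine bc_app_eq _ _ _ _ ?_
  have h1 := adj'.counit.naturality ((bc adjK adjK' ρ).app F)
  have h2 := ρ.naturality (adj.counit.app (S.obj F))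
  dsimp at h1 h2 ⊢
  simp only [Adjunction.comp_counit_app, Functor.map_comp, Category.assoc, Functor.comp_obj, vPaste_app]
  rw [← K'.map_comp_assoc (L'.map (R'.map _)), h1, K'.map_comp, Category.assoc, map_bc_counit,
    ← K'.map_comp_assoc (L'.map _), map_bc_counit, K'.map_comp, Category.assoc, reassoc_of% h2]

end Paste

section Base

variable {A A' B B' : Type*} [Category* A] [Category* A'] [Category* B] [Category* B']
  {G : A ⥤ A'} {G' : B ⥤ B'} {L : A ⥤ B} {R : B ⥤ A} {L' : A' ⥤ B'} {R' : B' ⥤ A'}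
  (adj : L ⊣ R) (adj' : L' ⊣ R') (σ : G ⋙ L' ≅ L ⋙ G')
  {P : A' ⥤ A} {P' : B' ⥤ B} (adjG : G ⊣ P) (adjG' : G' ⊣ P')

/-- The identification of composite right adjoints. -/
def rightIso : P' ⋙ R ≅ R' ⋙ P := conjugateIsoEquiv (adj.comp adjG') (adjG.comp adj') σ |>.symm |>.symm

theorem homEquiv_bc (E : B) :
    adjG.homEquiv _ _ ((bc adj adj' σ.hom).app E) =
      R.map (adjG'.unit.app E) ≫ (rightIso adj adj' σ adjG adjG').hom.app (G'.obj E) := by
  have hr : ∀ Y : B', (rightIso adj adj' σ adjG adjG').hom.app Y =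
      adjG.homEquiv _ _ (adj'.homEquiv _ _ (σ.hom.app (R.obj (P'.obj Y)) ≫ G'.map (adj.counit.app (P'.obj Y)) ≫
        adjG'.counit.app Y)) := fun Y => by
    simp [rightIso, conjugateIsoEquiv, conjugateEquiv_apply_app, Adjunction.homEquiv_unit]
  rw [hr]
  refine Eq.trans (congrArg _ ?_) (adjG.homEquiv_naturality_left _ _)
  refine Eq.trans ?_ (adj'.homEquiv_naturality_left _ _)
  rw [bc_app]
  refine congrArg _ ?_
  have h := σ.hom.naturality (R.map (adjG'.unit.app E))
  have h2 := adj.counit.naturality (adjG'.unit.app E)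
  dsimp at h h2 ⊢
  rw [reassoc_of% h, ← G'.map_comp_assoc, h2, G'.map_comp, Category.assoc, Adjunction.left_triangle_components]
  exact congrArg _ (Category.comp_id _).symm

theorem bc_eq_transpose (E : B) :
    (bc adj adj' σ.hom).app E =
      (adjG.homEquiv _ _).symm (R.map (adjG'.unit.app E) ≫ (rightIso adj adj' σ adjG adjG').hom.app (G'.obj E)) := by
  exact ((congrArg _ (homEquiv_bc adj adj' σ adjG adjG' E).symm).trans (Equiv.symm_apply_apply _ _)).symm

/-- Base change along a functor with fully faithful right adjoint. -/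
theorem isIso_bc_base (E : B) [IsIso adjG.counit] [IsIso (G.map (R.map (adjG'.unit.app E)))] :
    IsIso ((bc adj adj' σ.hom).app E) := by
  rw [bc_eq_transpose adj adj' σ adjG adjG', Adjunction.homEquiv_counit, Functor.map_comp]
  infer_instance

end Base

section Factor

variable {A A₀ D : Type*} [Category* A] [Category* A₀] [Category* D]
  {Li : A ⥤ A₀} {Pi : A₀ ⥤ A} (adjI : Li ⊣ Pi) [IsIso adjI.counit] {F H : A₀ ⥤ D} (κ : Li ⋙ F ≅ Li ⋙ H)

/-- Isomorphisms descend along a functor with fully faithful right adjoint. -/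
noncomputable def descIso : F ≅ H :=
  F.leftUnitor.symm ≪≫ Functor.isoWhiskerRight (asIso adjI.counit).symm F ≪≫ Functor.associator _ _ _ ≪≫
    Functor.isoWhiskerLeft Pi κ ≪≫ (Functor.associator _ _ _).symm ≪≫
    Functor.isoWhiskerRight (asIso adjI.counit) H ≪≫ H.leftUnitor

theorem descIso_app (X : A) : (descIso adjI κ).hom.app (Li.obj X) = κ.hom.app X := by
  have h : inv (adjI.counit.app (Li.obj X)) = Li.map (adjI.unit.app X) :=
    IsIso.inv_eq_of_inv_hom_id (adjI.left_triangle_components X)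
  have hn := κ.hom.naturality (adjI.unit.app X)
  dsimp at hn
  simp [descIso, h]
  rw [reassoc_of% hn, ← H.map_comp, adjI.left_triangle_components, H.map_id, Category.comp_id]

end Factor

section Transport

variable {A A' B B' a a' b b' : Type*} [Category* A] [Category* A'] [Category* B] [Category* B'] [Category* a]
  [Category* a'] [Category* b] [Category* b']
  {G : A ⥤ A'} {G' : B ⥤ B'} {L : A ⥤ B} {R : B ⥤ A} {L' : A' ⥤ B'} {R' : B' ⥤ A'}
  (adj : L ⊣ R) (adj' : L' ⊣ R') (σ : G ⋙ L' ≅ L ⋙ G')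
  {g : a ⥤ a'} {g' : b ⥤ b'} {l : a ⥤ b} {r : b ⥤ a} {l' : a' ⥤ b'} {r' : b' ⥤ a'}
  {ιA : a ⥤ A} {ιA' : a' ⥤ A'} {ιB : b ⥤ B} {ιB' : b' ⥤ B'}
  (hA : ιA.FullyFaithful) (hA' : ιA'.FullyFaithful) (hB : ιB.FullyFaithful) (hB' : ιB'.FullyFaithful)
  (cg : ιA ⋙ G ≅ g ⋙ ιA') (cg' : ιB ⋙ G' ≅ g' ⋙ ιB') (cl : ιA ⋙ L ≅ l ⋙ ιB) (cl' : ιA' ⋙ L' ≅ l' ⋙ ιB')
  (cr : ιB ⋙ R ≅ r ⋙ ιA) (cr' : ιB' ⋙ R' ≅ r' ⋙ ιA')

/-- The restricted square. -/
noncomputable def restrictIso : g ⋙ l' ≅ l ⋙ g' :=
  NatIso.ofComponents (fun X => hB'.preimageIso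
    ((cl'.app (g.obj X)).symm ≪≫ L'.mapIso (cg.app X).symm ≪≫ σ.app (ιA.obj X) ≪≫ G'.mapIso (cl.app X) ≪≫
      cg'.app (l.obj X)))
    fun {X Y} φ => by
      apply hB'.map_injective
      simp only [Functor.comp_obj, Functor.comp_map, Functor.preimageIso_hom, Functor.map_comp,
        Functor.FullyFaithful.preimageIso_hom, Functor.FullyFaithful.map_preimage, Iso.trans_hom, Iso.symm_hom,
        Iso.app_inv, Iso.app_hom, Functor.mapIso_hom, Functor.mapIso_inv, Category.assoc]
      have h1 := cl'.inv.naturality (g.map φ)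
      have h2 := cg.inv.naturality φ
      have h3 := σ.hom.naturality (ιA.map φ)
      have h4 := cl.hom.naturality φ
      have h5 := cg'.hom.naturality (l.map φ)
      dsimp at h1 h2 h3 h4 h5 ⊢
      rw [reassoc_of% h1, ← L'.map_comp_assoc, h2, L'.map_comp_assoc, reassoc_of% h3, ← G'.map_comp_assoc, h4,
        G'.map_comp_assoc, h5]

/-- Base change maps can be tested after restricting to full subcategories. -/
theorem isIso_bc_of_restrict (M : b)
    (h : IsIso ((bc (adj.restrictFullyFaithful hA hB cl cr) (adj'.restrictFullyFaithful hA' hB' cl' cr')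
      (restrictIso σ hB' cg cg' cl cl').hom).app M)) :
    IsIso ((bc adj adj' σ.hom).app (ιB.obj M)) := by
  let am := adj.restrictFullyFaithful hA hB cl cr
  let am' := adj'.restrictFullyFaithful hA' hB' cl' cr'
  let bm := (bc am am' (restrictIso σ hB' cg cg' cl cl').hom).app M
  have key : (bc adj adj' σ.hom).app (ιB.obj M) = G.map (cr.hom.app M) ≫ cg.hom.app (r.obj M) ≫ ιA'.map bm ≫
      cr'.inv.app (g'.obj M) ≫ R'.map (cg'.inv.app M) := by
    refine bc_app_eq _ _ _ _ ?_
    have e1 := adj.map_restrictFullyFaithful_counit_app hA hB cl cr M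
    have e2 := adj'.map_restrictFullyFaithful_counit_app hA' hB' cl' cr' (g'.obj M)
    have e3 := congrArg (fun t => ιB'.map t) (map_bc_counit am am' (restrictIso σ hB' cg cg' cl cl').hom M)
    have n1 := cl'.hom.naturality bm
    have n2 := adj'.counit.naturality (cg'.inv.app M)
    have n3 := cg'.hom.naturality (am.counit.app M)
    have n4 := σ.hom.naturality (cr.hom.app M)
    have hσ : ∀ X : a, ιB'.map ((restrictIso σ hB' cg cg' cl cl').hom.app X) =
        cl'.inv.app (g.obj X) ≫ L'.map (cg.inv.app X) ≫ σ.hom.app (ιA.obj X) ≫ G'.map (cl.hom.app X) ≫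
          cg'.hom.app (l.obj X) := fun X => by
      simp [restrictIso]
    simp only [Functor.map_comp] at e3
    dsimp [am, am', bm] at e1 e2 e3 n1 n2 n3 n4 ⊢
    simp only [hσ, Category.assoc] at e3
    rw [e2] at e3
    rw [← n3, ← G'.map_comp_assoc, e1] at e3
    simp only [Functor.map_comp, Category.assoc, Functor.id_obj]
    rw [n2, ← cancel_mono (cg'.hom.app M)]
    simp only [Category.assoc, Iso.inv_hom_id_app, Category.comp_id, Functor.comp_obj]
    have t1 : ∀ {Z} (k : ιB'.obj (l'.obj (r'.obj (g'.obj M))) ⟶ Z), L'.map (ιA'.map _) ≫ cl'.hom.app _ ≫ k = _ :=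
      fun k => (reassoc_of% n1) k
    rw [← cl'.hom_inv_id_app_assoc (r'.obj (g'.obj M)) (L'.map (cr'.inv.app (g'.obj M)) ≫ _)]
    simp only [Functor.comp_obj, Category.assoc]
    rw [t1, e3]
    simp only [Iso.hom_inv_id_app_assoc, ← L'.map_comp_assoc, Category.assoc, Iso.hom_inv_id_app,
      Category.comp_id, G'.map_comp, Functor.comp_obj]
    simp only [Category.id_comp, Category.assoc, reassoc_of% n4, Functor.comp_obj]
    rw [← G'.map_comp_assoc (L.map _), ← L.map_comp, Iso.hom_inv_id_app]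
    erw [CategoryTheory.Functor.map_id, CategoryTheory.Functor.map_id, Category.id_comp]
  haveI := h
  haveI : IsIso bm := h
  rw [key]
  infer_instance

end Transport

end Groth.Agent.DBC9
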