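import Groth.Agent.Lib.DBC9.Algebra
import Mathlib.Algebra.Category.Ring.Constructions

/-! The module form of a pushout of rings. -/

set_option autoImplicit false
set_option backward.isDefEq.respectTransparency false
set_option backward.isDefEq.respectTransparency.types false

universe u

open CategoryTheory CategoryTheory.Limits
open scoped TensorProduct ChangeOfRings

namespace Groth.Agent.DBC9

/-- A pushout of rings as extension of scalars. -/
theorem exists_pushIso {A B A' B' : CommRingCat.{u}} (φ : A ⟶ B) (γ : A ⟶ A') (φ' : A' ⟶ B') (γ' : B ⟶ B')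
    (H : IsPushout γ φ φ' γ') :
    ∃ e : (ModuleCat.extendScalars γ.hom).obj ((ModuleCat.restrictScalars φ.hom).obj (ModuleCat.of B B)) ≅
      (ModuleCat.restrictScalars φ'.hom).obj (ModuleCat.of B' B'),
      ∀ b : B, e.hom ((1 : A') ⊗ₜ[A, γ.hom] b) = γ'.hom b := by
  letI := γ.hom.toAlgebra
  letI := φ.hom.toAlgebra
  letI := φ'.hom.toAlgebra
  letI := γ'.hom.toAlgebra
  letI : Algebra A B' := (φ'.hom.comp γ.hom).toAlgebra
  haveI : IsScalarTower A A' B' := IsScalarTower.of_algebraMap_eq fun _ => rfl
  haveI : IsScalarTower A B B' := IsScalarTower.of_algebraMap_eq fun x => congrArg (fun t => t.hom x) H.w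
  have hP : Algebra.IsPushout A A' B B' := CommRingCat.isPushout_iff_isPushout.1 H
  let l : (ModuleCat.extendScalars γ.hom).obj ((ModuleCat.restrictScalars φ.hom).obj (ModuleCat.of B B)) ≃ₗ[A']
      (ModuleCat.restrictScalars φ'.hom).obj (ModuleCat.of B' B') :=
    (Algebra.IsPushout.equiv A A' B B').toLinearEquiv
  exact ⟨l.toModuleIso,
    fun b => by
      change Algebra.IsPushout.equiv A A' B B' ((1 : A') ⊗ₜ[A] b) = γ'.hom b
      rw [Algebra.IsPushout.equiv_tmul, map_one, one_mul]
      rfl⟩

end Groth.Agent.DBC9
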