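import Groth.Agent.Lib.DBC9.MV
import Mathlib.RingTheory.Flat.Localization

/-! Base change for quasi-compact open immersions. -/

set_option autoImplicit false
set_option linter.unusedSectionVars false
set_option linter.style.haveILetI false
set_option backward.isDefEq.respectTransparency false
set_option backward.isDefEq.respectTransparency.types false
set_option maxHeartbeats 800000

universe u

open CategoryTheory CategoryTheory.Limits AlgebraicGeometry

attribute [local instance] HasDerivedCategory.standard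

namespace Groth.Agent.DBC9

open DMon9

attribute [local instance] hasRpush

/-- A union of basic opens. -/
noncomputable def un {A : CommRingCat.{u}} (l : List A) : (Spec A).Opens :=
  l.foldr (fun a S => (PrimeSpectrum.basicOpen a : (Spec A).Opens) ⊔ S) ⊥

theorem un_cons {A : CommRingCat.{u}} (a : A) (l : List A) :
    un (a :: l) = (PrimeSpectrum.basicOpen a : (Spec A).Opens) ⊔ un l := rfl

theorem preimage_un {A B : CommRingCat.{u}} (ψ : A ⟶ B) (l : List A) :
    Spec.map ψ ⁻¹ᵁ un l = un (l.map ψ.hom) := by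
  induction l with
  | nil => rfl
  | cons a l ih =>
    rw [List.map_cons, un_cons, un_cons, Scheme.Hom.preimage_sup, ih]
    rfl

theorem un_mul {A : CommRingCat.{u}} (a : A) (l : List A) :
    un (l.map (a * ·)) = (PrimeSpectrum.basicOpen a : (Spec A).Opens) ⊓ un l := by
  induction l with
  | nil => exact (inf_bot_eq _).symm
  | cons b l ih =>
    rw [List.map_cons, un_cons, un_cons, ih, inf_sup_left]
    exact congrArg (· ⊔ _) (PrimeSpectrum.basicOpen_mul a b)

theorem coe_un {A : CommRingCat.{u}} (l : List A) :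
    (un l : Set (Spec A)) = (PrimeSpectrum.zeroLocus {x : A | x ∈ l})ᶜ := by
  induction l with
  | nil =>
    have h : {x : A | x ∈ ([] : List A)} = ∅ := by ext; simp
    rw [h, PrimeSpectrum.zeroLocus_empty, Set.compl_univ]
    rfl
  | cons a l ih =>
    have h : {x : A | x ∈ a :: l} = {a} ∪ {x : A | x ∈ l} := by ext; simp
    rw [h, PrimeSpectrum.zeroLocus_union, Set.compl_inter, ← ih, ← PrimeSpectrum.basicOpen_eq_zeroLocus_compl]
    rfl

theorem exists_un {A : CommRingCat.{u}} (S : (Spec A).Opens) (hS : IsCompact (S : Set (Spec A))) :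
    ∃ l : List A, S = un l := by
  obtain ⟨t, ht⟩ := PrimeSpectrum.isCompact_isOpen_iff.1 ⟨hS, S.2⟩
  refine ⟨t.toList, TopologicalSpace.Opens.ext ?_⟩
  rw [coe_un, show {x : A | x ∈ t.toList} = (t : Set A) by ext; simp]
  exact ht.symm

variable {R T T' R' : Scheme.{u}}

theorem isOpenImmersion_of_pullback {P X Y Z : Scheme.{u}} {fst : P ⟶ X} {snd : P ⟶ Y} {i : X ⟶ Z} {j : Y ⟶ Z}
    (H : IsPullback fst snd i j) [IsOpenImmersion j] :
    ∃ _ : IsOpenImmersion fst, fst.opensRange = i ⁻¹ᵁ j.opensRange := by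
  haveI : IsOpenImmersion fst := by
    rw [← H.isoPullback_hom_fst]
    infer_instance
  refine ⟨inferInstance, ?_⟩
  rw [← Scheme.Hom.opensRange_pullbackFst j i]
  exact TopologicalSpace.Opens.ext (by
    simp only [Scheme.Hom.coe_opensRange]
    rw [← H.isoPullback_hom_fst, Scheme.Hom.comp_base, TopCat.coe_comp, Set.range_comp,
      Function.Surjective.range_eq (f := ⇑H.isoPullback.hom) H.isoPullback.hom.homeomorph.surjective, Set.image_univ])

/-- Reduction to opens of affine schemes. -/
theorem good_openImm (P : ∀ A : CommRingCat.{u}, (Spec A).Opens → Prop)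
    (hP : ∀ (A A' : CommRingCat.{u}) (γ : A ⟶ A') (T T' : Scheme.{u}) (k : T ⟶ Spec A) [IsOpenImmersion k],
      P A k.opensRange → ∀ (f' : T' ⟶ Spec A') (g' : T' ⟶ T), IsPullback g' f' k (Spec.map γ) →
        Good k f' (Spec.map γ) g')
    {j : R ⟶ T} [IsOpenImmersion j] {j' : R' ⟶ T'} {g : T' ⟶ T} {g' : R' ⟶ R} (hsq : IsPullback g' j' j g)
    (h : ∀ (W : T.Opens) (hW : IsAffineOpen W), P Γ(T, W) (hW.fromSpec ⁻¹ᵁ j.opensRange)) : Good j j' g g' :=
  good_of_affine hsq fun U hU U' _ hle T₀ _ k fT _ hT f'' g'' H => by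
    obtain ⟨_, hr⟩ := isOpenImmersion_of_pullback hT
    exact hP _ _ _ T₀ _ fT (hr ▸ h U hU) f'' g'' H

/-- Unions of at most `n` basic opens. -/
theorem good_list : ∀ (n : ℕ) (A A' : CommRingCat.{u}) (γ : A ⟶ A') (T T' : Scheme.{u}) (k : T ⟶ Spec A)
    [IsOpenImmersion k], (∃ l : List A, l.length ≤ n + 1 ∧ k.opensRange = un l) →
    ∀ (f' : T' ⟶ Spec A') (g' : T' ⟶ T), IsPullback g' f' k (Spec.map γ) → Good k f' (Spec.map γ) g' := by
  intro n
  induction n with
  | zero =>
    rintro A A' γ T T' k _ ⟨l, hl, hr⟩ f' g' H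
    obtain ⟨a, ha⟩ : ∃ a : A, k.opensRange = (PrimeSpectrum.basicOpen a : (Spec A).Opens) := by
      match l, hl with
      | [], _ => exact ⟨0, hr.trans PrimeSpectrum.basicOpen_zero.symm⟩
      | [a], _ => exact ⟨a, hr.trans (sup_bot_eq _)⟩
    let B := CommRingCat.of (Localization.Away a)
    let φ : A ⟶ B := CommRingCat.ofHom (algebraMap A (Localization.Away a))
    have hφ : φ.hom.Flat := RingHom.flat_algebraMap_iff.2 (IsLocalization.flat _ (Submonoid.powers a))
    haveI : IsOpenImmersion (Spec.map φ) :=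
      inferInstanceAs (IsOpenImmersion (Spec.map (CommRingCat.ofHom (algebraMap A (Localization.Away a)))))
    let e := IsOpenImmersion.isoOfRangeEq (Spec.map φ) k (by
      refine (PrimeSpectrum.localization_away_comap_range (Localization.Away a) a).trans ?_
      exact (congrArg (fun S : (Spec A).Opens => (S : Set (Spec A))) ha).symm.trans (Scheme.Hom.coe_opensRange k))
    exact good_affine φ γ (torIndep_of_flat_right _ _ hφ) k e.hom (IsOpenImmersion.isoOfRangeEq_hom_fac _ _ _)
      f' g' H
  | succ n ih =>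
    rintro A A' γ T T' k _ ⟨l, hl, hr⟩ f' g' H
    match l, hl with
    | [], _ => exact ih A A' γ T T' k ⟨[], by simp, hr⟩ f' g' H
    | a :: l, hl =>
      have hlen : l.length ≤ n + 1 := Nat.le_of_succ_le_succ (by simpa using hl)
      let p := k ⁻¹ᵁ (PrimeSpectrum.basicOpen a : (Spec A).Opens)
      let q := k ⁻¹ᵁ un l
      have hpq : p ⊔ q = ⊤ := by
        rw [← Scheme.Hom.preimage_sup, ← un_cons, ← hr]
        exact k.preimage_opensRange
      refine good_union p q hpq fun r hrpq => ?_
      obtain ⟨m, hm, hrm⟩ : ∃ m : List A, m.length ≤ n + 1 ∧ r = k ⁻¹ᵁ un m ∧ un m ≤ k.opensRange := by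
        rw [hr, un_cons]
        rcases hrpq with rfl | rfl | rfl
        · exact ⟨[a], by simp, by simp [p, un], by simp [un]⟩
        · exact ⟨l, hlen, rfl, le_sup_right⟩
        · exact ⟨l.map (a * ·), by simpa using hlen, by rw [un_mul]; rfl, (un_mul a l).le.trans (inf_le_right.trans le_sup_right)⟩
      have hsq : IsPullback (g' ∣_ r) (g' ⁻¹ᵁ r).ι r.ι g' := isPullback_morphismRestrict g' r
      refine ⟨good_openImm (fun B S => ∃ m : List B, m.length ≤ n + 1 ∧ S = un m) ih hsq fun W hW => ?_, ?_⟩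
      · refine ⟨m.map (Spec.preimage (hW.fromSpec ≫ k)).hom, by simpa using hm, ?_⟩
        rw [← preimage_un, Spec.map_preimage, Scheme.Hom.comp_preimage, Scheme.Opens.opensRange_ι, hrm.1]
      · refine ih A A' γ _ _ (r.ι ≫ k) ⟨m, hm, ?_⟩ _ _ (hsq.paste_vert H)
        rw [Scheme.Hom.opensRange_comp, Scheme.Opens.opensRange_ι, hrm.1,
          Scheme.Hom.image_preimage_eq_opensRange_inf, inf_eq_right.2 hrm.2]

/-- Base change for quasi-compact open immersions. -/
theorem good_qcOpen {j : R ⟶ T} [IsOpenImmersion j] {j' : R' ⟶ T'} {g : T' ⟶ T} {g' : R' ⟶ R}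
    (hsq : IsPullback g' j' j g)
    (h : ∀ W : T.Opens, IsAffineOpen W → IsCompact ((W : Set T) ∩ j.opensRange)) : Good j j' g g' := by
  refine good_openImm (fun B S => ∃ l : List B, S = un l)
    (fun A A' γ T T' k _ ⟨l, hl⟩ => good_list l.length A A' γ T T' k ⟨l, by omega, hl⟩) hsq fun W hW => ?_
  refine exists_un _ (hW.fromSpec.isOpenEmbedding.isInducing.isCompact_iff.2 ?_)
  rw [← Scheme.Hom.coe_image, Scheme.Hom.image_preimage_eq_opensRange_inf, IsAffineOpen.opensRange_fromSpec]
  exact h W hW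

end Groth.Agent.DBC9
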