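import Groth.Agent.Lib.DBC9.Good
import Groth.Agent.Lib.TorBal.Dim
import Mathlib.AlgebraicGeometry.Morphisms.QuasiSeparated
import Mathlib.AlgebraicGeometry.Morphisms.Flat

/-! Base change: affine squares and reduction to affine bases. -/

set_option autoImplicit false
set_option linter.unusedSectionVars false
set_option linter.style.haveILetI false
set_option backward.isDefEq.respectTransparency false
set_option backward.isDefEq.respectTransparency.types false
set_option maxHeartbeats 800000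

universe u

open CategoryTheory CategoryTheory.Limits AlgebraicGeometry

attribute [local instance] HasDerivedCategory.standard

namespace Groth.Agent.DBC9

open DMon9

attribute [local instance] hasRpush

variable {X Y X' Y' : Scheme.{u}}

/-- The Tor condition of a pair of algebras. -/
def TorIndep {A A' B : Type u} [CommRing A] [CommRing A'] [CommRing B] (γ : A →+* A') (φ : A →+* B) : Prop :=
  ∀ q : ℕ, 0 < q → Subsingleton (@DRing.Tor A _ q A' B _ γ.toModule _ φ.toModule)

theorem torIndep_of_flat_right {A A' B : Type u} [CommRing A] [CommRing A'] [CommRing B] (γ : A →+* A')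
    (φ : A →+* B) (hφ : φ.Flat) : TorIndep γ φ := by
  intro q hq
  obtain ⟨n, rfl⟩ : ∃ n, q = n + 1 := ⟨q - 1, by omega⟩
  letI : Module A A' := γ.toModule
  letI : Module A B := φ.toModule
  haveI : Module.Flat A B := hφ
  exact ModuleCat.subsingleton_of_isZero (TorBal.isZero_tor_flat_right B n A')

theorem torIndep_of_flat_left {A A' B : Type u} [CommRing A] [CommRing A'] [CommRing B] (γ : A →+* A')
    (φ : A →+* B) (hγ : γ.Flat) : TorIndep γ φ := by
  intro q hq
  obtain ⟨n, rfl⟩ : ∃ n, q = n + 1 := ⟨q - 1, by omega⟩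
  letI : Module A A' := γ.toModule
  letI : Module A B := φ.toModule
  haveI : Module.Flat A A' := hγ
  exact ModuleCat.subsingleton_of_isZero (TorBal.isZero_tor_flat_left A' n (ModuleCat.of A B))

/-- Affine squares. -/
theorem good_spec {A A' B : CommRingCat.{u}} (φ : A ⟶ B) (γ : A ⟶ A') (hT : TorIndep γ.hom φ.hom)
    (f' : X' ⟶ Spec A') (g' : X' ⟶ Spec B) (H : IsPullback g' f' (Spec.map φ) (Spec.map γ)) :
    Good (Spec.map φ) f' (Spec.map γ) g' := by
  let B' := pushout γ φ
  let φ' : A' ⟶ B' := pushout.inl γ φ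
  let γ' : B ⟶ B' := pushout.inr γ φ
  have hp : IsPushout γ φ φ' γ' := IsPushout.of_hasPushout γ φ
  have hP : IsPullback (Spec.map γ') (Spec.map φ') (Spec.map φ) (Spec.map γ) :=
    (isPullback_SpecMap_of_isPushout _ _ _ _ hp).flip
  let e' := hP.isoIsPullback _ _ H
  have hg : e'.hom ≫ g' = Spec.map γ' := hP.isoIsPullback_hom_fst _ _ H
  have hf : e'.hom ≫ f' = Spec.map φ' := hP.isoIsPullback_hom_snd _ _ H
  haveI := DQC.hasLBaseChange γ.hom
  refine good_isoBase (𝟙 (Spec A')) e'.hom (Spec.map φ') (by rw [Category.comp_id, hf]) ?_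
  rw [Category.id_comp, hg]
  intro L L' adj adj' σ E hE
  exact isIso_bc_spec φ γ φ' γ' hp
    (fun a => isIso_νT_of_tor γ.hom ((ModuleCat.restrictScalars φ.hom).obj (ModuleCat.of B B)) hT a) adj adj' σ E hE

/-- Changing the source by an isomorphism. -/
theorem good_isoSource {W : Scheme.{u}} {f : X ⟶ Y} {f' : X' ⟶ Y'} {g : Y' ⟶ Y} {g' : X' ⟶ X} (e : W ⟶ X)
    [IsIso e] {fW : W ⟶ Y} (he : e ≫ f = fW) (h : Good fW f' g (g' ≫ inv e)) : Good f f' g g' :=
  good_base (j := 𝟙 Y) (i := e) (IsPullback.of_horiz_isIso ⟨by rw [he, Category.comp_id]⟩).flip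
    (Category.comp_id g) (by rw [Category.assoc, IsIso.inv_hom_id, Category.comp_id]) h

/-- Affine squares, up to isomorphism of the source. -/
theorem good_affine {A A' B : CommRingCat.{u}} (φ : A ⟶ B) (γ : A ⟶ A') (hT : TorIndep γ.hom φ.hom)
    {T : Scheme.{u}} (fT : T ⟶ Spec A) (e : Spec B ⟶ T) [IsIso e] (he : e ≫ fT = Spec.map φ)
    (f' : X' ⟶ Spec A') (g' : X' ⟶ T) (H : IsPullback g' f' fT (Spec.map γ)) :
    Good fT f' (Spec.map γ) g' := by
  refine good_isoSource e he (good_spec φ γ hT f' (g' ≫ inv e) ?_)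
  exact H.of_iso (Iso.refl _) (asIso e).symm (Iso.refl _) (Iso.refl _) (by simp) (by simp)
    (by rw [← he]; simp) (by simp)

/-- Reduction to affine bases. -/
theorem good_of_affine {f : X ⟶ Y} {f' : X' ⟶ Y'} {g : Y' ⟶ Y} {g' : X' ⟶ X} (hsq : IsPullback g' f' f g)
    (h : ∀ (U : Y.Opens) (hU : IsAffineOpen U) (U' : Y'.Opens), IsAffineOpen U' → ∀ (hle : U' ≤ g ⁻¹ᵁ U)
      (T T' : Scheme.{u}) (k : T ⟶ X) (fT : T ⟶ Spec Γ(Y, U)), IsOpenImmersion k →
      IsPullback fT k hU.fromSpec f → ∀ (f'' : T' ⟶ Spec Γ(Y', U')) (g'' : T' ⟶ T),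
      IsPullback g'' f'' fT (Spec.map (g.appLE U U' hle)) → Good fT f'' (Spec.map (g.appLE U U' hle)) g'') :
    Good f f' g g' := by
  refine good_local fun y => ?_
  obtain ⟨U, hU, hyU, -⟩ := TopologicalSpace.Opens.isBasis_iff_nbhd.1 Y.isBasis_affineOpens
    (TopologicalSpace.Opens.mem_top (g y))
  obtain ⟨U', hU', hyU', hle⟩ : ∃ U' : Y'.Opens, IsAffineOpen U' ∧ y ∈ U' ∧ U' ≤ g ⁻¹ᵁ U :=
    TopologicalSpace.Opens.isBasis_iff_nbhd.1 Y'.isBasis_affineOpens (show y ∈ g ⁻¹ᵁ U from hyU)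
  refine ⟨U', _, pullback.fst f' U'.ι, inferInstance, pullback.snd f' U'.ι,
    (IsPullback.of_hasPullback f' U'.ι).flip, hyU', ?_⟩
  let e : Spec Γ(Y', U') ⟶ U'.toScheme := hU'.isoSpec.inv
  let fV := pullback.snd f' U'.ι
  let i := pullback.fst f' U'.ι
  refine good_isoBase e (pullback.fst fV e) (pullback.snd fV e) pullback.condition.symm ?_
  let T := pullback hU.fromSpec f
  have hT : IsPullback (pullback.fst hU.fromSpec f) (pullback.snd hU.fromSpec f) hU.fromSpec f :=
    IsPullback.of_hasPullback _ _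
  have hV : IsPullback (pullback.fst fV e ≫ i ≫ g') (pullback.snd fV e) f (hU'.fromSpec ≫ g) := by
    have h1 := (IsPullback.of_hasPullback fV e).paste_horiz
      ((IsPullback.of_hasPullback f' U'.ι).paste_horiz hsq)
    rwa [show e ≫ U'.ι ≫ g = hU'.fromSpec ≫ g from (Category.assoc _ _ _).symm] at h1
  have hw : Spec.map (g.appLE U U' hle) ≫ hU.fromSpec = hU'.fromSpec ≫ g := hU.SpecMap_appLE_fromSpec g hU' hle
  let g₁' : pullback fV e ⟶ T := hT.lift (pullback.snd fV e ≫ Spec.map (g.appLE U U' hle))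
    (pullback.fst fV e ≫ i ≫ g') (by rw [Category.assoc, hw, hV.w])
  have hg₁ : g₁' ≫ pullback.snd hU.fromSpec f = pullback.fst fV e ≫ i ≫ g' := hT.lift_snd _ _ _
  have hP : IsPullback g₁' (pullback.snd fV e) (pullback.fst hU.fromSpec f) (Spec.map (g.appLE U U' hle)) := by
    refine IsPullback.of_right ?_ (hT.lift_fst _ _ _) hT.flip
    rw [hg₁, hw]
    exact hV
  refine good_base (j := hU.fromSpec) hT (g₁ := Spec.map (g.appLE U U' hle)) (g₁' := g₁') ?_ hg₁ ?_
  · exact hw.trans (Category.assoc _ _ _)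
  · exact h U hU U' hU' hle T _ _ _ inferInstance hT _ _ hP

end Groth.Agent.DBC9
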